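import Cfsg.Agent.R3.Glob

set_option autoImplicit false

/-! A bound for the order of the automorphism group of the graph of the model. -/

namespace Cfsg.Agent.R3
open MulAction Cfsg.Agent.Comp Cfsg.Agent.Schur

/-- the automorphisms of the graph of the model -/
def Aut0 (M : Subgroup (Equiv.Perm ℕ)) (n D : ℕ) : Subgroup (Equiv.Perm ℕ) where
  carrier := {σ | σ ∈ Bd n ∧ ∀ x < n, ∀ y < n, (adj0 M n D (σ x) (σ y) ↔ adj0 M n D x y)}
  mul_mem' := fun {a b} ha hb => ⟨(Bd n).mul_mem ha.1 hb.1, fun x hx y hy =>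
    (ha.2 _ (Bd.lt hb.1 hx) _ (Bd.lt hb.1 hy)).trans (hb.2 x hx y hy)⟩
  one_mem' := ⟨(Bd n).one_mem, fun _ _ _ _ => Iff.rfl⟩
  inv_mem' := fun {a} ha => ⟨(Bd n).inv_mem ha.1, fun x hx y hy => by
    rw [← ha.2 _ (Bd.lt ((Bd n).inv_mem ha.1) hx) _ (Bd.lt ((Bd n).inv_mem ha.1) hy)]; simp⟩

/-- instructions: a new base point; counting neighbours in a cell -/
inductive Ai : Type
  | fx (x : Nat) (w : List Nat) : Ai
  | ct (ws : List (Nat × List Nat)) : Ai

noncomputable def cell (n : Nat) (L : List Nat) (x : Nat) : Nat :=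
  @List.rec Nat (fun _ => Nat) (ivl (nat_lit 0) n) (fun m _ ih => frcN ih fun c =>
    cond (bitB m x) (Nat.land c m) (Nat.xor c (Nat.land c m))) L

noncomputable def addP (P : List Nat) : Nat → List Nat :=
  @List.rec Nat (fun _ => Nat → List Nat)
    (fun c => @Nat.rec (fun _ => List Nat) [] (fun m _ => [Nat.succ m]) c)
    (fun p ps ih c => @Nat.rec (fun _ => List Nat) (p :: ps)
      (fun m _ => Nat.xor p (Nat.succ m) :: ih (Nat.land p (Nat.succ m))) c) P

noncomputable def addA (n D : Nat) (R : List Net) (ws : List (Nat × List Nat))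
    (k : List Nat → Bool) : List Nat → Bool :=
  @List.rec _ (fun _ => List Nat → Bool) k (fun e _ ih P =>
    band (Nat.blt e.1 n) (band (mem1 R e.2 (pt (nat_lit 0)) e.1)
      (frc (runZ (nat_lit 1) R e.2 D) fun r => frcL (addP P r) ih))) ws

/-- at most one bit from position 64 on -/
noncomputable def one (C : Nat) : Bool :=
  Nat.beq (Nat.land (Nat.shiftRight C (nat_lit 64)) (Nat.sub (Nat.shiftRight C (nat_lit 64)) (nat_lit 1)))
    (nat_lit 0)

/-- the sets separate the points of `C`; the lowest 64 bits only keep the numbers different -/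
noncomputable def sep (L : List Nat) : Nat → Nat → Bool :=
  @List.rec Nat (fun _ => Nat → Nat → Bool) (fun _ C => one C)
    (fun m _ ih j C => one C || frc (Nat.succ j) fun i =>
      frc (Nat.land C (Nat.lor (Nat.shiftLeft m (nat_lit 64)) (nat_lit 18446744073709551615))) fun C' =>
        band (ih i C') (frc (Nat.xor (Nat.xor C C')
          (Nat.mod (Nat.xor C (pt j)) (nat_lit 18446744073709551616))) (ih i))) L

noncomputable def autB (n B D : Nat) (R : List Net) (P : List Ai) : List Nat → Nat → Bool :=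
  @List.rec Ai (fun _ => List Nat → Nat → Bool)
    (fun L bd => band (Nat.ble (nat_lit 1) bd) (frc (ivl (nat_lit 64) n) (sep L (nat_lit 0))))
    (fun i _ ih L bd => @Ai.rec (fun _ => Bool)
      (fun x w => band (Nat.blt x n) (band (mem1 R w (pt (nat_lit 0)) x)
        (frc (Nat.div bd (popc B (cell n L x))) fun bd => frc (runZ (nat_lit 1) R w D) fun r =>
          frc (pt x) fun p => ih (r :: p :: L) bd)))
      (fun ws => band (decide ((ws.map Prod.fst).IsChain (· < ·)))
        (band (Nat.beq (ptsS (ws.map Prod.fst)) (cell n L (nth (nat_lit 0) (ws.map Prod.fst) (nat_lit 0))))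
          (addA n D R ws (fun Q => ih (Q ++ L) bd) []))) i) P

theorem testBit_xor (x y i : ℕ) : (Nat.xor x y).testBit i = (x.testBit i ^^ y.testBit i) :=
  Nat.testBit_xor _ _ _

theorem testBit_cell (n : ℕ) (L : List ℕ) (x y : ℕ) :
    (cell n L x).testBit y ↔ y < n ∧ ∀ m ∈ L, m.testBit y = m.testBit x := by
  induction L with
  | nil => simp [cell, testBit_ivl]
  | cons m L ih =>
    change (frcN (cell n L x) fun c =>
      cond (bitB m x) (Nat.land c m) (Nat.xor c (Nat.land c m))).testBit y ↔ _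
    rw [frcN_eq, bitB_eq, List.forall_mem_cons, and_left_comm, ← ih]
    cases m.testBit x <;> simp only [cond_true, cond_false, testBit_xor, testBit_land] <;>
      cases m.testBit y <;> simp

theorem cell_lt (n : ℕ) (L : List ℕ) (x : ℕ) : cell n L x < 2 ^ n :=
  Nat.lt_pow_two_of_testBit _ fun i hi => by
    by_contra h
    have := ((testBit_cell n L x i).mp (by simpa using h)).1
    omega

/-- the number with the binary digits read off at the position `y` -/
def val (P : List ℕ) (y : ℕ) : ℕ := P.foldr (fun p v => (p.testBit y).toNat + 2 * v) 0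

theorem val_addP (P : List ℕ) (y : ℕ) : ∀ c, val (addP P c) y = val P y + (c.testBit y).toNat := by
  induction P with
  | nil => intro c; cases c <;> simp [addP, val]
  | cons p P ih =>
    intro c
    cases c with
    | zero => simp [addP]
    | succ m =>
      change ((Nat.xor p (m + 1)).testBit y).toNat + 2 * val (addP P (Nat.land p (m + 1))) y =
        (p.testBit y).toNat + 2 * val P y + _
      rw [ih, testBit_xor, testBit_land]
      cases p.testBit y <;> cases (m + 1).testBit y <;> simp <;> omega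

theorem val_inj {P : List ℕ} {y z : ℕ} (h : val P y = val P z) : ∀ p ∈ P, p.testBit y = p.testBit z := by
  induction P with
  | nil => simp
  | cons p P ih =>
    change (p.testBit y).toNat + 2 * val P y = (p.testBit z).toNat + 2 * val P z at h
    rw [List.forall_mem_cons]
    cases h1 : p.testBit y <;> cases h2 : p.testBit z <;> simp only [h1, h2, Bool.toNat_true,
      Bool.toNat_false] at h <;> first | omega | exact ⟨rfl, ih (by omega)⟩

theorem sep_sound {L : List ℕ} {x y : ℕ} (h : ∀ m ∈ L, m.testBit x = m.testBit y) :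
    ∀ j C, sep L j C = true → C.testBit (64 + x) → C.testBit (64 + y) → x = y := by
  have k : ∀ C, one C = true → C.testBit (64 + x) → C.testBit (64 + y) → x = y := fun C h h1 h2 => by
    rw [one, Nat.beq_eq] at h
    rw [← Nat.testBit_shiftRight] at h1 h2
    obtain ⟨j, hj⟩ := (Nat.and_sub_one_eq_zero_iff_isPowerOfTwo (n := C >>> 64)
      fun e => by simp [e] at h1).mp h
    rw [hj, Nat.testBit_two_pow, decide_eq_true_eq] at h1 h2
    exact h1.symm.trans h2
  induction L with
  | nil => exact fun _ => k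
  | cons m L ih =>
    intro j C hC h1 h2
    change (_ || frc _ fun i => frc (Nat.land C (Nat.lor (m <<< 64) (2 ^ 64 - 1))) fun C' =>
      band (sep L i C') (frc (Nat.xor (Nat.xor C C') (Nat.xor C (pt j) % 2 ^ 64)) (sep L i))) = true at hC
    rw [Bool.or_eq_true, frc_eq, frc_eq, frc_eq, band_eq] at hC
    rw [List.forall_mem_cons] at h
    have e1 : ∀ z, (Nat.land C (Nat.lor (m <<< 64) (2 ^ 64 - 1))).testBit (64 + z) =
        (C.testBit (64 + z) && m.testBit z) := fun z => by
      rw [testBit_land, testBit_lor, Nat.testBit_shiftLeft, Nat.testBit_two_pow_sub_one]; simp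
    have e2 : ∀ z, (Nat.xor C (pt j) % 2 ^ 64).testBit (64 + z) = false := fun z => by
      rw [Nat.testBit_mod_two_pow]; simp
    rcases hC with hC | hC
    · exact k C hC h1 h2
    · cases e : m.testBit y
      · exact ih h.2 _ _ hC.2 (by rw [testBit_xor, testBit_xor, e1, e2, h1, h.1, e]; rfl)
          (by rw [testBit_xor, testBit_xor, e1, e2, h2, e]; rfl)
      · exact ih h.2 _ _ hC.1 (by rw [e1, h1, h.1, e]; rfl) (by rw [e1, h2, e]; rfl)

theorem testBit_ptsS (l : List ℕ) (i : ℕ) : (ptsS l).testBit i ↔ i ∈ l := by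
  induction l with
  | nil => simp [ptsS]
  | cons a l ih =>
    change (Nat.lor (pt a) (ptsS l)).testBit i ↔ _
    rw [testBit_lor, Bool.or_eq_true, ih, testBit_pt, decide_eq_true_eq, List.mem_cons, eq_comm]

variable {M H : Subgroup (Equiv.Perm ℕ)} {n B d D q G S Z N : ℕ} {T R : List Net}

open Classical in
theorem addA_sound (X : Top M H n B T R d D q G S Z N) {k : List ℕ → Bool}
    (ws : List (ℕ × List ℕ)) : ∀ P, addA n D R ws k P = true → ∃ Q, k Q = true ∧
      ∀ y < n, val Q y = val P y + (ws.map Prod.fst).countP fun x => decide (adj0 M n D x y) := by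
  induction ws with
  | nil => exact fun P h => ⟨P, h, by simp⟩
  | cons e ws ih =>
    intro P h
    change band _ (band _ (frc _ fun r => frcL (addP P r) (addA n D R ws k))) = true at h
    rw [band_eq, band_eq, frc_eq, frcL_eq, Nat.blt_eq] at h
    obtain ⟨Q, h1, h2⟩ := ih _ h.2.2
    refine ⟨Q, h1, fun y hy => ?_⟩
    rw [h2 y hy, val_addP, List.map_cons, List.countP_cons, ← X.rowW h.1 h.2.1 hy]
    cases (runZ (nat_lit 1) R e.2 D).testBit y <;> simp
    omega

theorem aut_sound (X : Top M H n B T R d D q G S Z N) (P : List Ai) : ∀ (L : List ℕ) (bd : ℕ)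
    (A : Subgroup (Equiv.Perm ℕ)), A ≤ Aut0 M n D →
    (∀ m ∈ L, ∀ σ ∈ A, ∀ i < n, m.testBit (σ i) = m.testBit i) → autB n B D R P L bd = true →
    Nat.card A ≤ bd := by
  classical
  induction P with
  | nil =>
    intro L bd A hA hL h
    change band _ (frc _ (sep L _)) = true at h
    rw [band_eq, frc_eq, Nat.ble_eq] at h
    have : A = ⊥ := (Subgroup.eq_bot_iff_forall _).mpr fun σ hσ => Equiv.ext fun i => by
      rcases Nat.lt_or_ge i n with hi | hi
      · exact sep_sound (fun m hm => hL m hm σ hσ i hi) _ _ h.2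
          (by simpa [testBit_ivl] using Bd.lt (hA hσ).1 hi) (by simpa [testBit_ivl] using hi)
      · exact (hA hσ).1 i hi
    rw [this, Subgroup.card_bot]; exact h.1
  | cons i P ih =>
    intro L bd A hA hL h
    have hc : ∀ x, ∀ σ ∈ A, ∀ i < n, (cell n L x).testBit (σ i) ↔ (cell n L x).testBit i :=
      fun x σ hσ i hi => by
        rw [testBit_cell, testBit_cell]
        exact and_congr (iff_of_true (Bd.lt (hA hσ).1 hi) hi)
          (forall₂_congr fun m hm => by rw [hL m hm σ hσ i hi])
    cases i with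
    | fx x w =>
      change band _ (band _ (frc _ fun bd => frc _ fun r => frc _ fun p =>
        autB n B D R P (r :: p :: L) bd)) = true at h
      simp only [band_eq, frc_eq, Nat.blt_eq] at h
      have := finite_of_le_Bd (fun σ hσ => (hA hσ).1 : A ≤ Bd n)
      have h1 := ih _ _ (A ⊓ stabilizer _ x) (inf_le_left.trans hA) (fun m hm σ hσ i hi => by
        have e : σ x = x := hσ.2
        simp only [List.mem_cons] at hm
        rcases hm with rfl | rfl | hm
        · rw [Bool.eq_iff_iff, X.rowW h.1 h.2.1 hi, X.rowW h.1 h.2.1 (Bd.lt (hA hσ.1).1 hi),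
            ← (hA hσ.1).2 x h.1 i hi, e]
        · rw [testBit_pt, testBit_pt, decide_eq_decide, ← σ.injective.eq_iff (a := x) (b := i), e]
        · exact hL m hm σ hσ.1 i hi) h.2.2
      have h2 : (orbit A x).ncard ≤ popc B (cell n L x) := by
        rw [← ncard_bset X.m1.hB (cell_lt n L x)]
        refine Set.ncard_le_ncard ?_ ((Set.finite_lt_nat n).subset fun _ h => h.1)
        rintro _ ⟨σ, rfl⟩
        exact ⟨Bd.lt (hA σ.2).1 h.1, (hc x _ σ.2 x h.1).mpr ((testBit_cell ..).mpr ⟨h.1, fun _ _ => rfl⟩)⟩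
      rw [← ((stabilizer _ x).subgroupOf A).index_mul_card, ← Subgroup.relIndex, relIndex_stabilizer,
        ← Subgroup.card_map_of_injective A.subtype_injective, Subgroup.subgroupOf_map_subtype, inf_comm]
      exact (Nat.mul_le_mul h2 h1).trans (Nat.mul_div_le _ _)
    | ct ws =>
      change band _ (band _ (addA n D R ws (fun Q => autB n B D R P (Q ++ L) bd) [])) = true at h
      simp only [band_eq, decide_eq_true_eq, Nat.beq_eq] at h
      obtain ⟨Q, h1, h2⟩ := addA_sound X ws _ h.2.2
      refine ih _ _ A hA (fun m hm σ hσ i hi => ?_) h1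
      rcases List.mem_append.mp hm with hm | hm
      swap
      · exact hL m hm σ hσ i hi
      refine val_inj ?_ m hm
      have hi' := Bd.lt (hA hσ).1 hi
      rw [h2 i hi, h2 _ hi']
      congr 1
      have e := h.2.1
      have nd : (ws.map Prod.fst).Nodup := (List.isChain_iff_pairwise.mp h.1).imp ne_of_lt
      generalize nth (nat_lit 0) (ws.map Prod.fst) (nat_lit 0) = x0 at e
      generalize ws.map Prod.fst = xs at e nd
      have lt : ∀ z ∈ xs, z < n := fun z hz =>
        ((testBit_cell n L x0 z).mp (e ▸ (testBit_ptsS xs z).mpr hz)).1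
      have mm : ∀ τ ∈ A, ∀ z ∈ xs, τ z ∈ xs := fun τ hτ z hz => by
        rw [← testBit_ptsS, e, hc x0 τ hτ z (lt z hz), ← e, testBit_ptsS]; exact hz
      have pm : (xs.map σ).Perm xs := (List.perm_ext_iff_of_nodup (nd.map σ.injective) nd).mpr
        fun z => ⟨fun hz => by obtain ⟨u, hu, rfl⟩ := List.mem_map.mp hz; exact mm σ hσ u hu,
          fun hz => List.mem_map.mpr ⟨_, mm _ (A.inv_mem hσ) z hz, by simp⟩⟩
      rw [← pm.countP_eq, List.countP_map]
      refine List.countP_congr fun z hz => ?_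
      simp only [Function.comp, decide_eq_true_eq]
      exact (hA hσ).2 z (lt z hz) i hi

theorem eq_of_small_index {Γ : Type*} [Group Γ] {A M K : Subgroup Γ} [Finite A] [IsSimpleGroup M]
    (hM : M ≤ A) (hK : K ≤ A) (hc : Nat.card K = Nat.card M) {r : ℕ} (hr : r.Prime)
    (h1 : r ∣ Nat.card M) (h2 : Nat.card A < r * Nat.card M) : M = K := by
  classical
  have : Finite K := Finite.of_injective _ (Subgroup.inclusion_injective hK)
  let φ := (toPermHom A (A ⧸ K.subgroupOf A)).comp (Subgroup.inclusion hM)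
  rcases φ.normal_ker.eq_bot_or_eq_top with h | h
  · have := Fintype.ofFinite (A ⧸ K.subgroupOf A)
    have e1 := Subgroup.card_dvd_of_injective φ ((MonoidHom.ker_eq_bot_iff φ).mp h)
    rw [Nat.card_perm, ← Subgroup.index] at e1
    have e2 := (K.subgroupOf A).index_mul_card
    rw [Nat.card_congr (Subgroup.subgroupOfEquivOfLe hK).toEquiv, hc] at e2
    have e3 := Nat.mul_le_mul_right (Nat.card M) ((hr.dvd_factorial).mp (h1.trans e1))
    omega
  · refine Subgroup.eq_of_le_of_card_ge (fun m hm => ?_) hc.le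
    have : φ ⟨m, hm⟩ = 1 := (h ▸ Subgroup.mem_top _ : (⟨m, hm⟩ : M) ∈ φ.ker)
    have := congrArg (fun σ : Equiv.Perm _ => σ ((1 : A) : A ⧸ K.subgroupOf A)) this
    have := QuotientGroup.eq.mp (show ((⟨m, hM hm⟩ * 1 : A) : A ⧸ K.subgroupOf A) = (1 : A) from this)
    simpa [Subgroup.mem_subgroupOf] using this

theorem final (X : Top M H n B T R d D q G S Z N) [IsSimpleGroup M] {P : List Ai} {bd r : ℕ}
    (h : autB n B D R P [] bd = true) (hr : r.Prime) (h1 : r ∣ Nat.card M) (h2 : bd < r * Nat.card M)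
    {Ω : Type*} {E : SimpleGraph Ω} {Γ : Subgroup (Equiv.Perm Ω)}
    (hΓ : ∀ g ∈ Γ, ∀ x y, E.Adj (g x) (g y) ↔ E.Adj x y) (hc : Nat.card Γ = Nat.card M)
    (hι : ∃ ι : Ω ↪ ℕ, (∀ x, ι x < n) ∧ (∀ i < n, ∃ x, ι x = i) ∧
      ∀ x y, E.Adj x y ↔ adj0 M n D (ι x) (ι y)) : Nonempty (Γ ≃* M) := by
  obtain ⟨ι, i1, i2, i3⟩ := hι
  have inj := Equiv.Perm.viaEmbeddingHom_injective ι
  have := finite_of_le_Bd (fun σ hσ => hσ.1 : Aut0 M n D ≤ Bd n)
  have e := eq_of_small_index (A := Aut0 M n D) (K := Γ.map (Equiv.Perm.viaEmbeddingHom ι))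
    (fun m hm => ⟨X.bd hm, fun x _ y _ => adj0_smul hm x y⟩) (by
      rintro _ ⟨g, hg, rfl⟩
      refine ⟨fun i hi => Equiv.Perm.viaEmbedding_apply_of_notMem _ _ _ ?_, fun x hx y hy => ?_⟩
      · rintro ⟨x, rfl⟩
        exact absurd (i1 x) (not_lt.mpr hi)
      · obtain ⟨x, rfl⟩ := i2 x hx
        obtain ⟨y, rfl⟩ := i2 y hy
        rw [Equiv.Perm.viaEmbeddingHom_apply, Equiv.Perm.viaEmbedding_apply,
          Equiv.Perm.viaEmbedding_apply, ← i3, ← i3, hΓ g hg])
    ((Subgroup.card_map_of_injective inj).trans hc) hr h1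
    ((aut_sound X P [] bd _ le_rfl (by simp) h).trans_lt h2)
  exact ⟨(Γ.equivMapOfInjective _ inj).trans (MulEquiv.subgroupCongr e.symm)⟩

end Cfsg.Agent.R3
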