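import Cfsg.Agent.Comp.Cent
import Cfsg.Agent.Schur.Bridge

set_option autoImplicit false

/-! Certificates on bit sets: unions of atoms, long orbits of sets, towers of `p`-groups. -/

namespace Cfsg.Agent.R3
open MulAction Cfsg.Agent.Comp Cfsg.Agent.Schur

/-- `f` holds for all unions of members of the list -/
noncomputable def allSel (f : Nat → Bool) (Ms : List Nat) : Nat → Bool :=
  @List.rec Nat (fun _ => Nat → Bool) f (fun m _ ih acc => band (ih acc) (frc (Nat.lor acc m) ih)) Ms

/-- the union -/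
noncomputable def orL (Ms : List Nat) : Nat :=
  @List.rec Nat (fun _ => Nat) (nat_lit 0) (fun m _ ih => Nat.lor m ih) Ms

/-- the sets grown from points -/
noncomputable def atomM (T : List Net) (W : List (List Nat)) (As : List (Nat × List Nat)) : List Nat :=
  As.map fun a => growZ T W a.2 (pt a.1)

noncomputable def atomsB (T : List Net) (W : List (List Nat)) (As : List (Nat × List Nat)) (U : Nat)
    (f : Nat → Bool) : Bool :=
  frcL (atomM T W As) fun Ms => band (Nat.beq (orL Ms) U) (allSel f Ms (nat_lit 0))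

theorem allSel_sound {n : ℕ} {X : Set ℕ} {f : ℕ → Bool} {Ms : List ℕ}
    (hM : ∀ M ∈ Ms, bset n M ⊆ X ∨ bset n M ⊆ Xᶜ) : ∀ acc, allSel f Ms acc = true →
    ∃ m, f m = true ∧ (∀ i, m.testBit i → acc.testBit i ∨ (orL Ms).testBit i) ∧
      ∀ i < n, (m.testBit i ↔ acc.testBit i ∨ (i ∈ X ∧ (orL Ms).testBit i)) := by
  induction Ms with
  | nil => exact fun acc h => ⟨acc, h, fun i hi => Or.inl hi, fun i _ => by simp [orL]⟩
  | cons M Ms ih =>
    intro acc h
    obtain ⟨h1, h2⟩ := (band_eq _ _).mp h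
    rw [frc_eq] at h2
    have e : ∀ i, (orL (M :: Ms)).testBit i = (M.testBit i || (orL Ms).testBit i) := fun i =>
      Nat.testBit_lor _ _ _
    have ih' := ih fun M' hM' => hM M' (List.mem_cons_of_mem _ hM')
    rcases hM M List.mem_cons_self with h3 | h3
    · obtain ⟨m, a1, a2, a3⟩ := ih' _ h2
      have e2 : ∀ i, (Nat.lor acc M).testBit i = (acc.testBit i || M.testBit i) := fun i =>
        Nat.testBit_lor _ _ _
      refine ⟨m, a1, fun i hi => ?_, fun i hi => ?_⟩
      · have := a2 i hi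
        simp only [e, e2, Bool.or_eq_true] at this ⊢
        tauto
      · have := @h3 i
        rw [a3 i hi]
        simp only [e, e2, Bool.or_eq_true, bset, Set.mem_setOf_eq] at this ⊢
        tauto
    · obtain ⟨m, a1, a2, a3⟩ := ih' _ h1
      refine ⟨m, a1, fun i hi => ?_, fun i hi => ?_⟩
      · have := a2 i hi
        simp only [e, Bool.or_eq_true] at this ⊢
        tauto
      · have := @h3 i
        rw [a3 i hi]
        simp only [e, Bool.or_eq_true, bset, Set.mem_setOf_eq, Set.mem_compl_iff] at this ⊢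
        tauto

theorem atom_mem {n : ℕ} {T : List Net} (hT : TOK n T) {W : List (List ℕ)} {X : Set ℕ}
    (hX : ∀ w ∈ W, ∀ i, ev (sig T) w i ∈ X ↔ i ∈ X) (p : ℕ) (sch : List ℕ) {i : ℕ}
    (hi : i ∈ bset n (growZ T W sch (pt p))) : i ∈ X ↔ p ∈ X := by
  rw [growZ_eq] at hi
  have k : ∀ Q : Set ℕ, p ∈ Q → bset n (pt p) ⊆ Q := fun Q hp j hj => by
    have := hj.2
    rw [testBit_pt, decide_eq_true_eq] at this
    exact this ▸ hp
  refine ⟨fun h => by_contra fun hp => ?_, fun hp => ?_⟩
  · exact grow_sub hT Xᶜ (fun w hw j hj h => hj ((hX w hw j).mpr h)) sch _ (k _ hp) hi h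
  · exact grow_sub hT X (fun w hw j hj => (hX w hw j).mp hj) sch _ (k _ hp) hi

theorem atoms_sound {n : ℕ} {T : List Net} (hT : TOK n T) {W : List (List ℕ)}
    {As : List (ℕ × List ℕ)} {U : ℕ} {f : ℕ → Bool} (h : atomsB T W As U f = true) (hU : U < 2 ^ n)
    {X : Set ℕ} (hX : ∀ w ∈ W, ∀ i, ev (sig T) w i ∈ X ↔ i ∈ X) (hs : X ⊆ bset n U) :
    ∃ m, m < 2 ^ n ∧ X = bset n m ∧ f m = true := by
  rw [atomsB, frcL_eq, band_eq] at h
  have e := Nat.eq_of_beq_eq_true h.1
  obtain ⟨m, a1, a2, a3⟩ := allSel_sound (n := n) (X := X) (fun M hM => by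
    obtain ⟨a, -, rfl⟩ := List.mem_map.mp hM
    by_cases hp : a.1 ∈ X
    · exact Or.inl fun i hi => (atom_mem hT hX _ _ hi).mpr hp
    · exact Or.inr fun i hi h => hp ((atom_mem hT hX _ _ hi).mp h)) _ h.2
  rw [e] at a2 a3
  refine ⟨m, Nat.lt_pow_two_of_testBit _ fun i hi => ?_, ?_, a1⟩
  · by_contra hm
    rcases a2 i (by simpa using hm) with h | h
    · simp at h
    · rw [Nat.testBit_lt_two_pow (hU.trans_le (Nat.pow_le_pow_right (by norm_num) hi))] at h
      exact absurd h (by simp)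
  · ext i
    refine ⟨fun hi => ⟨(hs hi).1, (a3 i (hs hi).1).mpr (Or.inr ⟨hi, (hs hi).2⟩)⟩, fun hi => ?_⟩
    rcases (a3 i hi.1).mp hi.2 with h | h
    · simp at h
    · exact h.1

/-- the number of new hash values along a path in the orbit of a set -/
noncomputable def walk (n p : Nat) (T : List Net) (w : List Nat) : Nat → Nat → Nat → Nat :=
  @List.rec Nat (fun _ => Nat → Nat → Nat → Nat) (fun _ _ c => c) (fun a _ ih Z seen c =>
    frcN (runZ (nat_lit 1) T [a] Z) fun Y => frcN (Nat.mod (Nat.mod Y (pt n)) p) fun h =>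
      @Bool.rec (fun _ => Nat) (frcN (Nat.lor seen (pt h)) fun s => frcN (Nat.succ c) (ih Y s))
        (ih Y seen c) (bitB seen h)) w

theorem walk_cons (n p : ℕ) (T : List Net) (a : ℕ) (w : List ℕ) (Z seen c : ℕ) :
    walk n p T (a :: w) Z seen c = frcN (runZ (nat_lit 1) T [a] Z) fun Y =>
      frcN (Nat.mod (Nat.mod Y (pt n)) p) fun h => @Bool.rec (fun _ => Nat)
        (frcN (Nat.lor seen (pt h)) fun s => frcN (Nat.succ c) (walk n p T w Y s))
        (walk n p T w Y seen c) (bitB seen h) := rfl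

theorem walk_le {H : Subgroup (Equiv.Perm ℕ)} {n p : ℕ} {T : List Net} (hT : TOK n T) (hA : AllIn H T)
    (hB : H ≤ Bd n) (K : Subgroup H) {Z : ℕ}
    (hK : ∀ g ∈ K, ∀ i < n, Z.testBit (g • i) = Z.testBit i) {w : List ℕ} {N : ℕ}
    (h : Nat.ble N (walk n p T w Z (nat_lit 0) (nat_lit 0)) = true) : N ≤ K.index := by
  classical
  have := finite_of_le_Bd hB
  have := Fintype.ofFinite (H ⧸ K)
  have key : ∀ (w : List ℕ) (Y seen : ℕ) (g : H) (F : Finset (H ⧸ K)),
      (∀ i < n, Y.testBit i = Z.testBit (g • i)) →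
      (∀ c ∈ F, ∃ (g : H) (m : ℕ), c = (g⁻¹ : H) ∧ (∀ i < n, m.testBit i = Z.testBit (g • i)) ∧
        seen.testBit (m % 2 ^ n % p)) → walk n p T w Y seen F.card ≤ Fintype.card (H ⧸ K) := by
    intro w
    induction w with
    | nil => exact fun _ _ _ F _ _ => F.card_le_univ
    | cons a w ih =>
      intro Y seen g F h1 h2
      have h3 : ∀ i < n, (runZ (nat_lit 1) T [a] Y).testBit i =
          Z.testBit ((g * ⟨sig T a, hA a⟩ : H) • i) := fun i hi => by
        rw [runZ_eq, testBit_runW1 hT _ _ hi, ev_single, h1 _ (Bd.lt (hT.sig_mem a) hi)]; rfl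
      have e : pt n = 2 ^ n := by simp [pt, Nat.shiftLeft_eq]
      rw [walk_cons, frcN_eq, frcN_eq, bitB_eq, e]
      generalize runZ (nat_lit 1) T [a] Y = Y' at h3
      cases hs : seen.testBit (Nat.mod (Nat.mod Y' (2 ^ n)) p) with
      | true => exact ih _ _ _ F h3 h2
      | false =>
        simp only [frcN_eq]
        have nm : (((g * ⟨sig T a, hA a⟩ : H)⁻¹ : H) : H ⧸ K) ∉ F := fun hm => by
          obtain ⟨g', m, a1, a2, a3⟩ := h2 _ hm
          have a4 := QuotientGroup.eq.mp a1
          have : m % 2 ^ n = Y' % 2 ^ n := Nat.eq_of_testBit_eq fun i => by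
            rw [Nat.testBit_mod_two_pow, Nat.testBit_mod_two_pow]
            by_cases hi : i < n
            · rw [a2 i hi, h3 i hi, ← hK _ a4 (g' • i) (Bd.lt (hB g'.2) hi), ← mul_smul]
              simp
            · simp [hi]
          rw [this] at a3
          exact absurd (hs.symm.trans a3) (by simp)
        have := ih Y' (Nat.lor seen (pt (Nat.mod (Nat.mod Y' (2 ^ n)) p))) _ (insert _ F) h3
          (fun c hc => by
            have e2 : ∀ a b i, (Nat.lor a b).testBit i = (a.testBit i || b.testBit i) :=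
              Nat.testBit_lor
            rcases Finset.mem_insert.mp hc with rfl | hc
            · exact ⟨_, Y', rfl, h3, by rw [e2, testBit_pt]; simp; exact Or.inr rfl⟩
            · obtain ⟨g', m, a1, a2, a3⟩ := h2 c hc
              exact ⟨g', m, a1, a2, by rw [e2, a3]; rfl⟩)
        rwa [Finset.card_insert_of_notMem nm] at this
  rw [Subgroup.index, Nat.card_eq_fintype_card]
  exact (Nat.le_of_ble_eq_true h).trans (key w Z 0 1 ∅ (fun i _ => rfl) (by simp))

/-- the equations of a tower of cyclic extensions -/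
def pcE (q : ℕ) : List (ℕ × List (List ℕ)) → List (List ℕ × List ℕ)
  | [] => []
  | e :: D => (wpow [e.1] q, []) ::
      (List.zipWith (fun b u => ([e.1, b], u ++ [e.1])) (D.map Prod.fst) e.2 ++ pcE q D)

def pcS : List (ℕ × List (List ℕ)) → Bool
  | [] => true
  | e :: D => e.2.length == D.length && e.2.all (fun u => u.all fun x => (D.map Prod.fst).contains x) &&
      pcS D

def pcW (D : List (ℕ × List (List ℕ))) : List (List ℕ) := D.map fun e => [e.1]

theorem pc_sound {G : Type*} [Group G] {s : ℕ → G} (hf : ∀ W, Finite (genW s W)) {p e : ℕ}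
    [Fact p.Prime] {D : List (ℕ × List (List ℕ))} (hE : ∀ x ∈ pcE (p ^ e) D, ev s x.1 = ev s x.2)
    (hS : pcS D = true) : IsPGroup p (genW s (pcW D)) := by
  induction D with
  | nil => rw [pcW, List.map_nil, genW_nil]; exact IsPGroup.of_bot
  | cons a D ih =>
    simp only [pcS, Bool.and_eq_true, beq_iff_eq, List.all_eq_true, List.contains_iff_mem] at hS
    simp only [pcE, List.forall_mem_cons, List.forall_mem_append, ev_wpow, ev_single, ev_nil] at hE
    have h1 : IsPGroup p (Subgroup.zpowers (s a.1)) := by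
      rintro ⟨_, j, rfl⟩
      refine ⟨e, Subtype.ext ?_⟩
      simp only [SubgroupClass.coe_pow, OneMemClass.coe_one]
      rw [← zpow_natCast, ← zpow_mul, mul_comm, zpow_mul, zpow_natCast, hE.1, one_zpow]
    have h2 : ∀ w ∈ pcW D, s a.1 * ev s w * (s a.1)⁻¹ ∈ genW s (pcW D) := fun w hw => by
      obtain ⟨b, hb, rfl⟩ := List.mem_map.mp hw
      obtain ⟨i, hi, rfl⟩ := List.getElem_of_mem hb
      have hi2 : i < a.2.length := hS.1.1 ▸ hi
      have := hE.2.1 ([a.1, D[i].1], a.2[i] ++ [a.1]) (List.mem_iff_getElem.mpr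
        ⟨i, by simp [hi, hi2], by simp⟩)
      simp only [ev_cons, ev_nil, mul_one, ev_append] at this ⊢
      rw [this, mul_inv_cancel_right]
      refine ev_mem_of_letters fun x hx => ?_
      obtain ⟨c, hc, rfl⟩ := List.mem_map.mp (hS.1.2 _ (List.getElem_mem hi2) x hx)
      exact List.mem_map.mpr ⟨c, hc, rfl⟩
    have h3 : Subgroup.zpowers (s a.1) ≤ Subgroup.normalizer (genW s (pcW D)) := by
      rw [Subgroup.zpowers_le]
      have := hf (pcW D)
      refine Subgroup.mem_normalizer_fintype fun g hg => ?_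
      have : (genW s (pcW D)).map (MulAut.conj (s a.1)).toMonoidHom ≤ genW s (pcW D) := by
        rw [Subgroup.map_le_iff_le_comap, genW_le]
        exact h2
      exact this ⟨g, hg, rfl⟩
    refine ((h1.to_sup_of_normal_right' (ih hE.2.2 hS.2) h3)).to_le (genW_le.mpr fun w hw => ?_)
    rcases List.mem_cons.mp hw with rfl | hw
    · rw [ev_single]; exact Subgroup.mem_sup_left (Subgroup.mem_zpowers _)
    · exact Subgroup.mem_sup_right (ev_mem_genW hw)

theorem fix_of_pgroup {H X : Type*} [Group H] [MulAction H X] {p : ℕ} [Fact p.Prime] {S : Subgroup H}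
    (hS : IsPGroup p S) (b : X) (h : ¬ p ∣ (orbit H b).ncard) :
    ∃ c ∈ orbit H b, ∀ g ∈ S, g • c = c := by
  obtain ⟨c, hc⟩ := hS.nonempty_fixed_point_of_prime_not_dvd_card (orbit H b) h
  exact ⟨c.1, c.2, fun g hg => congrArg Subtype.val (hc ⟨g, hg⟩)⟩

end Cfsg.Agent.R3
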