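import Cfsg.Agent.R3.Srg
import Cfsg.Agent.R3.Bits

set_option autoImplicit false

/-! The neighbours of the base point and the graph on them. -/

namespace Cfsg.Agent.R3
open MulAction Cfsg.Agent.Comp Cfsg.Agent.Schur

/-- a permutation group given by networks, with an orbit -/
structure Mod (H : Subgroup (Equiv.Perm ℕ)) (n B : ℕ) (T : List Net) (d D : ℕ) : Prop where
  ok : TOK n T
  all : AllIn H T
  bd : H ≤ Bd n
  hB : n ≤ 2 ^ B
  orb : orbit H d = bset n D
  lt : D < 2 ^ n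

variable {Ω : Type*} [Fintype Ω] {E : SimpleGraph Ω} [DecidableRel E.Adj]
  {H : Subgroup (Equiv.Perm ℕ)} [MulAction H Ω] {a : Ω} {k l lam mu n B d D : ℕ} {T : List Net}

/-- the element given by a word -/
noncomputable def Mod.el (M : Mod H n B T d D) (w : List ℕ) : H :=
  ⟨ev (sig T) w, ev_mem fun x _ => M.all x⟩

theorem Mod.el_smul (M : Mod H n B T d D) (w : List ℕ) (i : ℕ) : M.el w • i = ev (sig T) w i := rfl

theorem Mod.dn (M : Mod H n B T d D) : d < n := (M.orb ▸ mem_orbit_self d : d ∈ bset n D).1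

theorem Mod.run (M : Mod H n B T d D) (w : List ℕ) (S : ℕ) {i : ℕ} (hi : i < n) :
    (runZ (nat_lit 1) T w S).testBit i = S.testBit (M.el w • i) := by
  rw [runZ_eq, testBit_runW1 M.ok _ _ hi]; rfl

theorem Mod.smul_lt (M : Mod H n B T d D) (h : H) {i : ℕ} (hi : i < n) : h • i < n :=
  Bd.lt (M.bd h.2) hi

theorem Mod.smul_mem (M : Mod H n B T d D) (h : H) (i : ℕ) : h • i ∈ bset n D ↔ i ∈ bset n D := by
  rw [← M.orb]
  exact ⟨fun ⟨u, hu⟩ => ⟨h⁻¹ * u, by simp only [mul_smul] at hu ⊢; rw [hu, inv_smul_smul]⟩,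
    fun ⟨u, hu⟩ => ⟨h * u, by simp only [mul_smul] at hu ⊢; rw [hu]⟩⟩

theorem Mod.ex (M : Mod H n B T d D) {i : ℕ} (hi : i ∈ bset n D) : ∃ h : H, h • d = i := by
  rw [← M.orb] at hi; exact hi

theorem Mod.index (M : Mod H n B T d D) : (stabilizer H d).index = popc B D := by
  rw [index_stabilizer, M.orb, ncard_bset M.hB M.lt]

theorem Mod.fix (M : Mod H n B T d D) {W : List (List ℕ)} {p : ℕ} (h : invZ T W (pt p) = true) :
    ∀ w ∈ W, M.el w • p = p := fun _ hw => fix_of_invS M.ok (invZ_eq ▸ h) (ev_mem_genW hw)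

theorem Abs.orbD {H : Type*} [Group H] [MulAction H Ω] (A : Abs E H a k l lam mu) {b : Ω}
    (hb : E.Adj a b) : orbit H b = {x | E.Adj a x} := by
  ext x
  refine ⟨?_, fun hx => A.trD b x hb hx⟩
  rintro ⟨h, rfl⟩
  exact A.fa h ▸ (A.adj h a b).mpr hb

theorem Abs.orbG {H : Type*} [Group H] [MulAction H Ω] (A : Abs E H a k l lam mu) {c : Ω}
    (hc : c ≠ a ∧ ¬ E.Adj a c) : orbit H c = {x | x ≠ a ∧ ¬ E.Adj a x} := by
  ext x
  refine ⟨?_, fun hx => A.trG c x hc.1 hc.2 hx.1 hx.2⟩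
  rintro ⟨h, rfl⟩
  exact ⟨fun e => hc.1 (MulAction.injective h (e.trans (A.fa h).symm)),
    fun e => hc.2 ((A.adj h a c).mp (by rwa [A.fa]))⟩

theorem Abs.deg {H : Type*} [Group H] [MulAction H Ω] (A : Abs E H a k l lam mu) (x : Ω) :
    {y | E.Adj x y}.ncard = k := by
  rw [← A.srg.regular.degree_eq x, ← SimpleGraph.card_neighborFinset_eq_degree,
    ← Set.ncard_coe_finset, SimpleGraph.coe_neighborFinset]; rfl

theorem Abs.split (S : Set Ω) (a : Ω) (ha : a ∈ S) (E : SimpleGraph Ω) : S.ncard =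
    1 + {x | E.Adj a x ∧ x ∈ S}.ncard + {x | (x ≠ a ∧ ¬ E.Adj a x) ∧ x ∈ S}.ncard := by
  rw [add_assoc, ← Set.ncard_union_eq (Set.disjoint_left.mpr fun x h1 h2 => h2.1.2 h1.1), add_comm,
    ← Set.ncard_insert_of_notMem (a := a) (by simp)]
  congr 1
  ext x
  by_cases h1 : x = a <;> by_cases h2 : E.Adj a x <;> simp [h1, h2, ha]

theorem Abs.cardG {H : Type*} [Group H] [MulAction H Ω] (A : Abs E H a k l lam mu) :
    {x | x ≠ a ∧ ¬ E.Adj a x}.ncard = l := by
  have := Abs.split Set.univ a trivial E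
  simp only [Set.mem_univ, and_true, A.deg, Set.ncard_univ, Nat.card_eq_fintype_card, A.srg.card] at this
  omega

open Classical in
theorem Abs.cn {H : Type*} [Group H] [MulAction H Ω] (A : Abs E H a k l lam mu) (x y : Ω) :
    {z | E.Adj x z ∧ E.Adj y z}.ncard = if x = y then k else if E.Adj x y then lam else mu := by
  have e : {z | E.Adj x z ∧ E.Adj y z}.ncard = Fintype.card (E.commonNeighbors x y) := by
    rw [← Nat.card_eq_fintype_card]; rfl
  split_ifs with h1 h2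
  · subst h1; simpa using A.deg x
  · rw [e, A.srg.of_adj x y h2]
  · rw [e, A.srg.of_not_adj h1 h2]

theorem exists_map {H X Y : Type*} [Group H] [MulAction H X] [MulAction H Y] {d : X} {b : Y}
    (hs : stabilizer H b = stabilizer H d) : ∃ f : X → Y, ∀ h : H, f (h • d) = h • b := by
  classical
  refine ⟨fun x => if h : ∃ h : H, h • d = x then h.choose • b else b, fun h => ?_⟩
  have e : ∃ g : H, g • d = h • d := ⟨h, rfl⟩
  simp only [dif_pos e]
  have : h⁻¹ * e.choose ∈ stabilizer H b := by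
    rw [hs, mem_stabilizer_iff, mul_smul, e.choose_spec, inv_smul_smul]
  rw [mem_stabilizer_iff, mul_smul, inv_smul_eq_iff] at this
  exact this

theorem map_inj {H X Y : Type*} [Group H] [MulAction H X] [MulAction H Y] {d : X} {b : Y}
    (hs : stabilizer H b = stabilizer H d) (g h : H) : g • b = h • b ↔ g • d = h • d := by
  have := SetLike.ext_iff.mp hs (h⁻¹ * g)
  simpa only [mem_stabilizer_iff, mul_smul, inv_smul_eq_iff] using this

theorem map_ncard {H X Y : Type*} [Group H] [MulAction H X] [MulAction H Y] {d : X} {b : Y}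
    (hs : stabilizer H b = stabilizer H d) {f : X → Y} (hf : ∀ h : H, f (h • d) = h • b)
    (P : Y → Prop) : {y | y ∈ orbit H d ∧ P (f y)}.ncard = {x | x ∈ orbit H b ∧ P x}.ncard := by
  refine Set.ncard_congr (fun y _ => f y) ?_ ?_ ?_
  · rintro _ ⟨⟨h, rfl⟩, h2⟩
    exact ⟨⟨h, (hf h).symm⟩, h2⟩
  · rintro _ _ ⟨⟨h, rfl⟩, -⟩ ⟨⟨g, rfl⟩, -⟩ e
    exact (map_inj hs h g).mp ((hf h).symm.trans (e.trans (hf g)))
  · rintro _ ⟨⟨h, rfl⟩, h2⟩
    exact ⟨h • d, ⟨⟨h, rfl⟩, (hf h).symm ▸ h2⟩, hf h⟩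

noncomputable def f1 (B idx d exc m : Nat) : Bool :=
  !(bitB m d) || Nat.beq m (pt d) || Nat.beq m exc || !(Nat.beq (Nat.mod idx (popc B m)) (nat_lit 0))

theorem stab_of_atoms (M : Mod H n B T d D) {K : Subgroup H} (hK : K.index = popc B D)
    {W : List (List ℕ)} (hW : ∀ w ∈ W, M.el w ∈ K) {idx exc : ℕ} (hi : (orbit K d).ncard ∣ idx)
    {As : List (ℕ × List ℕ)} (h : atomsB T W As D (f1 B idx d exc) = true) :
    K = stabilizer H d ∨ exc ≠ pt d ∧ ∀ g ∈ K, ∀ i < n, exc.testBit (g • i) = exc.testBit i := by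
  have := finite_of_le_Bd M.bd
  have iv : ∀ g ∈ K, ∀ i, g • i ∈ orbit K d ↔ i ∈ orbit K d := fun g hg i =>
    ⟨fun ⟨u, hu⟩ => ⟨(⟨g, hg⟩ : K)⁻¹ * u, by
      simp only [mul_smul] at hu ⊢
      rw [hu]; exact inv_smul_smul g i⟩, fun ⟨u, hu⟩ => ⟨(⟨g, hg⟩ : K) * u, by
      simp only [mul_smul] at hu ⊢
      rw [hu]; rfl⟩⟩
  obtain ⟨m, h1, h2, h3⟩ := atoms_sound M.ok h M.lt (X := orbit K d) (fun w hw => iv _ (hW w hw))
    (by rw [← M.orb]; rintro _ ⟨g, rfl⟩; exact ⟨g.1, rfl⟩)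
  have h4 : d ∈ bset n m := h2 ▸ mem_orbit_self d
  rw [h2, ncard_bset M.hB h1] at hi
  simp only [f1, bitB_eq, h4.2, Bool.not_true, Bool.false_or, Bool.or_eq_true, Nat.beq_eq,
    Bool.not_eq_true', ← Bool.not_eq_true] at h3
  have h5 : (m = pt d ∨ m ≠ pt d ∧ m = exc) ∨ ¬ Nat.mod idx (popc B m) = nat_lit 0 := by tauto
  rcases h5 with (rfl | ⟨h5, rfl⟩) | h3
  · refine Or.inl (Subgroup.eq_of_le_of_card_ge (fun g hg => ?_) ?_)
    · have : g • d ∈ bset n (pt d) := h2 ▸ (⟨⟨g, hg⟩, rfl⟩ : g • d ∈ orbit K d)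
      have := this.2
      rw [testBit_pt, decide_eq_true_eq] at this
      exact this.symm
    · have e1 := K.index_mul_card
      have e2 := (stabilizer H d).index_mul_card
      rw [M.index, ← hK, ← e1] at e2
      exact (Nat.eq_of_mul_eq_mul_left (Nat.pos_of_ne_zero K.index_ne_zero_of_finite) e2).le
  · refine Or.inr ⟨h5, fun g hg i hi => Bool.eq_iff_iff.mpr ?_⟩
    have := iv g hg i
    rw [h2] at this
    exact ⟨fun h => (this.mp ⟨M.smul_lt g hi, h⟩).2, fun h => (this.mpr ⟨hi, h⟩).2⟩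
  · exact absurd (Nat.mod_eq_zero_of_dvd hi) h3

theorem step1 (A : Abs E H a k l lam mu) (M : Mod H n B T d D) (hk : popc B D = k) {p v idx e : ℕ}
    (hp : p.Prime) (hH : Nat.card H = k * (p ^ v * idx)) (h1 : ¬ p ∣ k) (h2 : ¬ p ∣ idx)
    {Q : List (ℕ × List (List ℕ))} (hE : ∀ x ∈ pcE (p ^ e) Q, ev (sig T) x.1 = ev (sig T) x.2)
    (hS : pcS Q = true) (hd : invZ T (pcW Q) (pt d) = true) {exc : ℕ} {As : List (ℕ × List ℕ)}
    (h : atomsB T (pcW Q) As D (f1 B idx d exc) = true) : ∃ b, E.Adj a b ∧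
      (stabilizer H b = stabilizer H d ∨ exc ≠ pt d ∧
        ∀ g ∈ stabilizer H b, ∀ i < n, exc.testBit (g • i) = exc.testBit i) := by
  have := finite_of_le_Bd M.bd
  have := Fact.mk hp
  have k0 : 0 < k := Nat.pos_of_ne_zero fun e => h1 (e ▸ dvd_zero p)
  obtain ⟨b0, hb0⟩ : {y | E.Adj a y}.Nonempty := Set.nonempty_of_ncard_ne_zero (by rw [A.deg]; omega)
  have cd : ∀ K : Subgroup H, K.index = k → Nat.card K = p ^ v * idx := fun K hK =>
    Nat.eq_of_mul_eq_mul_left k0 (by rw [← hH, ← K.index_mul_card, hK])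
  have hQ := (pc_sound M.ok.finite hE hS).comap_of_injective ((H.subtype.comp
    (stabilizer H d).subtype)) (H.subtype_injective.comp (stabilizer H d).subtype_injective)
  obtain ⟨S, hS⟩ := hQ.exists_le_sylow
  have cS : Nat.card S = p ^ v := by
    rw [S.card_eq_multiplicity, cd _ (M.index.trans hk), Nat.factorization_mul (pow_ne_zero _ hp.ne_zero)
      (show idx ≠ 0 from fun e => h2 (e ▸ dvd_zero p)), hp.factorization_pow]
    simp [Nat.factorization_eq_zero_of_not_dvd h2]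
  obtain ⟨b, hb, hf⟩ := fix_of_pgroup (S.isPGroup'.map (stabilizer H d).subtype) b0
    (by rwa [A.orbD hb0, A.deg])
  rw [A.orbD hb0] at hb
  have iK : (stabilizer H b).index = k := by rw [index_stabilizer, A.orbD hb, A.deg]
  refine ⟨b, hb, stab_of_atoms M (iK.trans hk.symm) (fun w hw => hf _ ⟨⟨M.el w, M.fix hd w hw⟩,
    hS (ev_mem_genW hw), rfl⟩) ?_ h⟩
  rw [← relIndex_stabilizer]
  have e1 := ((stabilizer H d).subgroupOf (stabilizer H b)).index_mul_card
  have e2 : p ^ v ∣ Nat.card ((stabilizer H d).subgroupOf (stabilizer H b)) := by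
    rw [← cS, ← Subgroup.card_map_of_injective (stabilizer H d).subtype_injective,
      ← Subgroup.card_map_of_injective (stabilizer H b).subtype_injective, Subgroup.subgroupOf_map_subtype]
    refine Subgroup.card_dvd_of_le fun g hg => ⟨?_, hf g hg⟩
    obtain ⟨x, -, rfl⟩ := hg
    exact x.2
  obtain ⟨t, e2⟩ := e2
  rw [cd _ iK, e2, mul_left_comm] at e1
  exact ⟨t, (Nat.eq_of_mul_eq_mul_left (pow_pos hp.pos _) e1).symm⟩

noncomputable def f3 (B k l d S m : Nat) : Bool :=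
  bitB m d || Nat.beq m S || frc (popc B m) fun c => Nat.beq (Nat.succ c) k ||
    !(Nat.beq (Nat.mod (Nat.mul k (Nat.sub (Nat.sub k c) (nat_lit 1))) l) (nat_lit 0))

/-- the neighbours of the base point are identified with the orbit of `d` -/
structure Loc (E : SimpleGraph Ω) (H : Subgroup (Equiv.Perm ℕ)) [MulAction H Ω] (a b : Ω)
    (n d D S : ℕ) (f : ℕ → Ω) : Prop where
  adj : E.Adj a b
  st : stabilizer H b = stabilizer H d
  map : ∀ h : H, f (h • d) = h • b
  lt : S < 2 ^ n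
  row : {y | y ∈ bset n D ∧ E.Adj b (f y)} = bset n S

theorem step3 (A : Abs E H a k l lam mu) (M : Mod H n B T d D) {b : Ω} (hb : E.Adj a b)
    (hs : stabilizer H b = stabilizer H d) {W : List (List ℕ)} (hd : invZ T W (pt d) = true) {S : ℕ}
    {As : List (ℕ × List ℕ)} (h : atomsB T W As D (f3 B k l d S) = true) :
    (∃ f, Loc E H a b n d D S f) ∧ popc B S = lam ∧ k * (k - lam - 1) = l * mu := by
  obtain ⟨f, hf⟩ := exists_map hs
  have e0 : k * (k - lam - 1) = l * mu := by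
    rw [SimpleGraph.IsSRGWith.param_eq E A.srg (by omega)]; congr 1; omega
  obtain ⟨m, h1, h2, h3⟩ := atoms_sound M.ok h M.lt (X := {y | y ∈ bset n D ∧ E.Adj b (f y)})
    (fun w hw i => by
      rw [← M.el_smul]
      simp only [Set.mem_setOf_eq, M.smul_mem]
      refine and_congr_right fun hi => ?_
      obtain ⟨g, rfl⟩ := M.ex hi
      have : M.el w ∈ stabilizer H b := hs ▸ M.fix hd w hw
      rw [← mul_smul, hf, hf, mul_smul, ← A.adj (M.el w) b (g • b), mem_stabilizer_iff.mp this])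
    fun _ h => h.1
  have e1 : popc B m = lam := by
    rw [← ncard_bset M.hB h1, ← h2, ← M.orb, map_ncard hs hf (E.Adj b), A.orbD hb]
    have := A.cn a b
    rwa [if_neg hb.ne, if_pos hb] at this
  simp only [f3, frc_eq, e1, Bool.or_eq_true, Nat.beq_eq, Bool.not_eq_true', ← Bool.not_eq_true,
    bitB_eq] at h3
  rcases h3 with (h3 | rfl) | h3 | h3
  · have : d ∈ {y | y ∈ bset n D ∧ E.Adj b (f y)} := h2 ▸ ⟨M.dn, h3⟩
    have e := hf 1
    rw [one_smul, one_smul] at e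
    exact absurd (e ▸ this.2) E.irrefl
  · exact ⟨⟨f, hb, hs, hf, h1, h2⟩, e1, e0⟩
  · exact absurd h3 A.nb
  · exact absurd (Nat.mod_eq_zero_of_dvd ⟨mu, e0⟩) h3

end Cfsg.Agent.R3
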