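import Cfsg.Agent.R3.Quad

set_option autoImplicit false

/-! The search for the common neighbours of two nonadjacent points. -/

namespace Cfsg.Agent.R3
open MulAction Cfsg.Agent.Comp Cfsg.Agent.Schur

/-- search trees -/
inductive Dt : Type
  | lf (j : Nat) : Dt
  | sol : Dt
  | br (i : Nat) (l r : Dt) : Dt

noncomputable def cnt (m : Nat) (r : List Nat) : Nat :=
  @List.rec Nat (fun _ => Nat) (nat_lit 0)
    (fun v _ ih => Nat.add (Nat.land (Nat.shiftRight m v) (nat_lit 1)) ih) r

noncomputable def conf (c0 c1 len I O : Nat) (e : Nat × List Nat) : Bool :=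
  frc (cnt I e.2) fun lo => frc (cnt O e.2) fun no =>
    band (bitB I e.1 || Nat.blt c0 lo || Nat.blt len (Nat.add c0 no))
      (bitB O e.1 || Nat.blt c1 lo || Nat.blt len (Nat.add c1 no))

noncomputable def dp (c0 c1 len full : Nat) (e0 : Nat × List Nat) (C : List (Nat × List Nat))
    (sols : List Nat) (t : Dt) : Nat → Nat → Bool :=
  @Dt.rec (fun _ => Nat → Nat → Bool) (fun j I O => conf c0 c1 len I O (nth e0 C j))
    (fun I O => band (Nat.beq (Nat.lor I O) full) (sols.contains I))
    (fun i _ _ l r I O => band (frc (Nat.lor I (pt i)) fun I => l I O)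
      (frc (Nat.lor O (pt i)) fun O => r I O)) t

theorem cnt_eq (m : ℕ) (r : List ℕ) : cnt m r = r.countP m.testBit := by
  induction r with
  | nil => rfl
  | cons v r ih =>
    change Nat.add (Nat.land (Nat.shiftRight m v) 1) (cnt m r) = _
    rw [ih, List.countP_cons, Nat.add_eq, add_comm, Nat.testBit]
    congr 1
    change (m >>> v) &&& 1 = _
    rw [Nat.and_comm, Nat.one_and_eq_mod_two]
    rcases Nat.mod_two_eq_zero_or_one (m >>> v) with h | h <;> simp [h]

theorem dp_sound {c0 c1 len full : ℕ} {e0 : ℕ × List ℕ} {C : List (ℕ × List ℕ)} {sols : List ℕ}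
    {x : ℕ → Bool} (hC : ∀ e ∈ e0 :: C, e.2.length = len ∧ e.2.countP x = if x e.1 then c1 else c0)
    (t : Dt) : ∀ I O, (∀ i, I.testBit i → x i = true) → (∀ i, O.testBit i → x i = false) →
      dp c0 c1 len full e0 C sols t I O = true → ∃ s ∈ sols, ∀ i, full.testBit i → x i = s.testBit i := by
  induction t with
  | lf j =>
    intro I O hI hO h
    change conf c0 c1 len I O (nth e0 C j) = true at h
    have he : nth e0 C j ∈ e0 :: C := List.mem_cons.mpr (nth_mem _ _ _)
    generalize nth e0 C j = e at h he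
    obtain ⟨h1, h2⟩ := hC e he
    simp only [conf, frc_eq, band_eq, cnt_eq, bitB_eq, Bool.or_eq_true, Nat.blt_eq, Nat.add_eq] at h
    have a1 : e.2.countP I.testBit ≤ e.2.countP x := List.countP_mono_left fun i _ => hI i
    have a2 : e.2.countP O.testBit ≤ e.2.countP (fun i => decide ¬ x i) :=
      List.countP_mono_left fun i _ hi => by simp [hO i hi]
    have a3 := List.length_eq_countP_add_countP x (l := e.2)
    have a4 := hI e.1
    have a5 := hO e.1
    cases hx : x e.1 <;> simp only [hx, if_true, Bool.false_eq_true, if_false, imp_false,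
      Bool.true_eq_false] at h2 a4 a5
    · rcases h.1 with (h | h) | h
      exacts [absurd h a4, by omega, by omega]
    · rcases h.2 with (h | h) | h
      exacts [absurd h a5, by omega, by omega]
  | sol =>
    intro I O hI hO h
    change band (Nat.beq (Nat.lor I O) full) (sols.contains I) = true at h
    rw [band_eq, Nat.beq_eq, List.contains_iff_mem] at h
    refine ⟨I, h.2, fun i hi => ?_⟩
    rw [← h.1, testBit_lor] at hi
    cases h3 : I.testBit i
    · exact hO i (by simpa [h3] using hi)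
    · exact hI i h3
  | br i l r ihl ihr =>
    intro I O hI hO h
    change band (frc _ fun I => dp c0 c1 len full e0 C sols l I O)
      (frc _ fun O => dp c0 c1 len full e0 C sols r I O) = true at h
    rw [band_eq, frc_eq, frc_eq] at h
    cases hx : x i
    · refine ihr _ _ hI (fun j hj => ?_) h.2
      rw [testBit_lor, testBit_pt, Bool.or_eq_true, decide_eq_true_eq] at hj
      exact hj.elim (hO j) fun e => e ▸ hx
    · refine ihl _ _ (fun j hj => ?_) hO h.1
      rw [testBit_lor, testBit_pt, Bool.or_eq_true, decide_eq_true_eq] at hj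
      exact hj.elim (hI j) fun e => e ▸ hx

/-- the preimage of `y` lies in the atom number `v` -/
noncomputable def hit (D : Nat) (T : List Net) (Os : List Nat) (u : List Nat) (y v : Nat) : Bool :=
  !(Nat.beq (Nat.land D (Nat.land (nth (nat_lit 0) Os v) (runZ (nat_lit 1) T u (pt y)))) (nat_lit 0))

noncomputable def consB (d D : Nat) (T : List Net) (W : List (List Nat)) (As : List (Nat × List Nat))
    (ys : List Nat) (C : List (List Nat × Nat × List Nat)) : Bool :=
  frcL (atomM T W As) fun Os => lall (fun e => band (hit D T Os e.1 d e.2.1)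
    (band (Nat.beq e.2.2.length ys.length) (lall (fun z => hit D T Os e.1 z.1 z.2) (ys.zip e.2.2)))) C

/-- the union of the selected members -/
noncomputable def selM (Os : List Nat) : Nat → Nat :=
  @List.rec Nat (fun _ => Nat → Nat) (fun _ => nat_lit 0) (fun m _ ih s =>
    Nat.lor (cond (bitB s (nat_lit 0)) m (nat_lit 0)) (ih (Nat.shiftRight s (nat_lit 1)))) Os

noncomputable def solB (D : Nat) (T : List Net) (W : List (List Nat)) (As : List (Nat × List Nat))
    (sols : List (Nat × List Nat × Nat)) : Bool :=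
  frcL (atomM T W As) fun Os => band (Nat.beq (orL Os) D) (lall (fun e =>
    Nat.beq (selM Os e.1) (Nat.land D (runZ (nat_lit 1) T e.2.1 e.2.2))) sols)

theorem testBit_selM (Os : List ℕ) (i : ℕ) : ∀ s, (selM Os s).testBit i ↔
    ∃ v < Os.length, s.testBit v ∧ (Os.getD v 0).testBit i := by
  induction Os with
  | nil => intro s; simp [selM]
  | cons m Os ih =>
    intro s
    change (Nat.lor (cond (bitB s 0) m 0) (selM Os (s >>> 1))).testBit i ↔ _
    rw [testBit_lor, Bool.or_eq_true, ih, bitB_eq, List.length_cons, Nat.exists_lt_succ_left]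
    simp only [Nat.testBit_shiftRight, List.getD_cons_zero, List.getD_cons_succ, add_comm 1]
    cases s.testBit 0 <;> simp

theorem testBit_orL (Os : List ℕ) (i : ℕ) : (orL Os).testBit i ↔
    ∃ v < Os.length, (Os.getD v 0).testBit i := by
  induction Os with
  | nil => simp [orL]
  | cons m Os ih =>
    change (Nat.lor m (orL Os)).testBit i ↔ _
    rw [testBit_lor, Bool.or_eq_true, ih, List.length_cons, Nat.exists_lt_succ_left]
    simp

variable {Ω : Type*} [Fintype Ω] {E : SimpleGraph Ω} [DecidableRel E.Adj]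
  {H : Subgroup (Equiv.Perm ℕ)} [MulAction H Ω] {a b : Ω} {k l lam mu n B d D S : ℕ} {T : List Net}
  {f : ℕ → Ω}

/-- the certificate for the constraints -/
def ConsOK (d D : ℕ) (T : List Net) (W : List (List ℕ)) (As : List (ℕ × List ℕ)) (ys : List ℕ)
    (C : List (List ℕ × ℕ × List ℕ)) : Prop :=
  ∀ e ∈ C, hit D T (atomM T W As) e.1 d e.2.1 = true ∧ e.2.2.length = ys.length ∧
    ∀ z ∈ ys.zip e.2.2, hit D T (atomM T W As) e.1 z.1 z.2 = true

theorem ConsOK.of {W : List (List ℕ)} {As : List (ℕ × List ℕ)} {ys : List ℕ}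
    {C : List (List ℕ × ℕ × List ℕ)} (h : consB d D T W As ys C = true) : ConsOK d D T W As ys C := by
  simpa only [ConsOK, consB, frcL_eq, lall_eq, band_eq, Nat.beq_eq] using h

theorem ConsOK.append {W : List (List ℕ)} {As : List (ℕ × List ℕ)} {ys : List ℕ}
    {C C' : List (List ℕ × ℕ × List ℕ)} (h : ConsOK d D T W As ys C) (h' : ConsOK d D T W As ys C') :
    ConsOK d D T W As ys (C ++ C') := fun e he => (List.mem_append.mp he).elim (h e) (h' e)

theorem step5 (L : Loc E H a b n d D S f) (A : Abs E H a k l lam mu) (M : Mod H n B T d D)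
    {c0 c1 : ℕ} {Y : List (ℕ × List ℕ)} (h4 : quadB B k l lam mu c0 c1 d D S T Y = true) {p e : ℕ}
    (hp : p.Prime) (hl : ¬ p ∣ l) {Q : List (ℕ × List (List ℕ))}
    (hE : ∀ x ∈ pcE (p ^ e) Q, ev (sig T) x.1 = ev (sig T) x.2) (hS : pcS Q = true)
    {As : List (ℕ × List ℕ)} {e0 : List ℕ × ℕ × List ℕ} {C : List (List ℕ × ℕ × List ℕ)}
    (hC : ConsOK d D T (pcW Q) As (Y.map Prod.fst) (e0 :: C)) {sols : List (ℕ × List ℕ × ℕ)} {t : Dt}
    (ht : dp c0 c1 Y.length (ivl 0 As.length) e0.2 (C.map Prod.snd) (sols.map Prod.fst) t 0 0 = true)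
    (hs : solB D T (pcW Q) As sols = true) : ∃ s ∈ sols, ∃ c, (c ≠ a ∧ ¬ E.Adj a c) ∧
      ∀ y ∈ bset n D, (E.Adj c (f y) ↔ s.2.2.testBit y) := by
  classical
  have := Fact.mk hp
  obtain ⟨h5, h6⟩ := step4 L A M h4
  obtain ⟨c', hc'⟩ : {x | x ≠ a ∧ ¬ E.Adj a x}.Nonempty := Set.nonempty_of_ncard_ne_zero (by
    rw [A.cardG]; rintro rfl; exact hl (dvd_zero p))
  obtain ⟨c, hc, hf⟩ := fix_of_pgroup ((pc_sound M.ok.finite hE hS).comap_of_injective H.subtype
    H.subtype_injective) c' (by rwa [A.orbG hc', A.cardG])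
  rw [A.orbG hc'] at hc
  let X : Set ℕ := {y | y ∈ bset n D ∧ E.Adj c (f y)}
  have hX : ∀ w ∈ pcW Q, ∀ i, ev (sig T) w i ∈ X ↔ i ∈ X := fun w hw i => by
    rw [← M.el_smul]
    simp only [X, Set.mem_setOf_eq, M.smul_mem]
    refine and_congr_right fun hi => ?_
    rw [L.eqv M _ hi, ← A.adj (M.el w) c (f i), hf (M.el w) (ev_mem_genW hw)]
  let x : ℕ → Bool := fun v => decide ((As.getD v (0, [])).1 ∈ X)
  have k1 : ∀ v z, z < n → ((atomM T (pcW Q) As).getD v 0).testBit z → (z ∈ X ↔ x v) := by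
    intro v z hz h
    rcases Nat.lt_or_ge v As.length with hv | hv
    · rw [atomM, List.getD_eq_getElem _ _ (by simpa using hv), List.getElem_map] at h
      simp only [x, List.getD_eq_getElem _ _ hv, decide_eq_true_eq]
      exact atom_mem M.ok hX _ _ ⟨hz, h⟩
    · rw [List.getD_eq_default _ _ (by simpa [atomM] using hv)] at h
      simp at h
  have k2 : ∀ u y v, hit D T (atomM T (pcW Q) As) u y v = true →
      (E.Adj (f y) (M.el u • c) ↔ x v) := fun u y v h => by
    rw [hit, Bool.not_eq_true', ← Bool.not_eq_true, Nat.beq_eq] at h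
    obtain ⟨z, hz⟩ := Nat.exists_testBit_of_ne_zero h
    simp only [testBit_land, Bool.and_eq_true, nth_eq] at hz
    have hD := M.mem hz.1
    have e := hz.2.2
    rw [M.run _ _ hD.1, testBit_pt, decide_eq_true_eq] at e
    rw [← k1 v z hD.1 hz.2.1, e, L.eqv M _ hD, A.adj, E.adj_comm]
    exact ⟨fun h => ⟨hD, h⟩, fun h => h.2⟩
  obtain ⟨s, hs1, hs2⟩ := dp_sound (x := x) (fun e he => by
    rw [← List.map_cons] at he
    obtain ⟨e, he', rfl⟩ := List.mem_map.mp he
    obtain ⟨a1, a2, a3⟩ := hC e he'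
    have q : M.el e.1 • c ∈ orbit H c := mem_orbit _ _
    rw [A.orbG hc] at q
    have a4 := h6 _ q.1 q.2
    have a5 := k2 _ _ _ a1
    rw [L.fd] at a5
    refine ⟨a2.trans (List.length_map _), ?_⟩
    rw [← if_congr a5 rfl rfl, ← a4, ← List.map_snd_zip (l₁ := Y.map Prod.fst) a2.le,
      ← List.map_fst_zip (l₁ := Y.map Prod.fst) a2.ge, List.map_fst_zip a2.ge, List.countP_map]
    conv_rhs => rw [← List.map_fst_zip (l₁ := Y.map Prod.fst) a2.ge, List.countP_map]
    refine List.countP_congr fun z hz => ?_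
    simp only [Function.comp, decide_eq_true_eq]
    exact (k2 _ _ _ (a3 z hz)).symm) t 0 0 (by simp) (by simp) ht
  obtain ⟨s, hs3, rfl⟩ := List.mem_map.mp hs1
  simp only [solB, frcL_eq, band_eq, lall_eq, Nat.beq_eq] at hs
  have q : M.el s.2.1 • c ∈ orbit H c := mem_orbit _ _
  rw [A.orbG hc] at q
  refine ⟨s, hs3, M.el s.2.1 • c, q, fun y hy => ?_⟩
  have hz := (M.smul_mem (M.el s.2.1)⁻¹ y).mpr hy
  have e1 := congrArg (fun m => m.testBit ((M.el s.2.1)⁻¹ • y)) (hs.2 s hs3)
  simp only [testBit_land, hz.2, Bool.true_and, M.run _ _ hz.1, smul_inv_smul] at e1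
  rw [← e1, testBit_selM, ← smul_inv_smul (M.el s.2.1) (f y), A.adj, ← L.eqv M _ hy]
  have k3 : ∀ v < (atomM T (pcW Q) As).length, x v = s.1.testBit v := fun v hv => hs2 v (by
    rw [testBit_ivl]; simpa [atomM] using hv)
  constructor
  · intro h
    obtain ⟨v, hv, h'⟩ := (testBit_orL (atomM T (pcW Q) As) _).mp (by rw [hs.1]; exact hz.2)
    exact ⟨v, hv, k3 v hv ▸ (k1 v _ hz.1 h').mp ⟨hz, h⟩, h'⟩
  · rintro ⟨v, hv, h1, h2⟩
    exact ((k1 v _ hz.1 h2).mpr ((k3 v hv).trans h1)).2

end Cfsg.Agent.R3
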