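import Cfsg.Agent.R3.Main

set_option autoImplicit false

/-! Change to a second permutation representation of the point stabiliser. -/

namespace Cfsg.Agent.R3
open MulAction Cfsg.Agent.Comp Cfsg.Agent.Schur

theorem Mod.inv {H : Subgroup (Equiv.Perm ℕ)} {n B d D Z : ℕ} {T : List Net} (M : Mod H n B T d D)
    {W : List (List ℕ)} (h : invZ T W Z = true) : ∀ w ∈ W, M.el w ∈ stabS H M.bd Z :=
  fun w hw i hi => by
    have := inv_of_invS M.ok (invZ_eq ▸ h) (ev_mem_genW hw) i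
    exact Bool.eq_iff_iff.mpr ⟨fun h => (this.mp ⟨M.smul_lt (M.el w) hi, h⟩).2,
      fun h => (this.mpr ⟨hi, h⟩).2⟩

theorem map_el {H H' : Subgroup (Equiv.Perm ℕ)} {n B d D n' B' d' D' L : ℕ} {T T' : List Net}
    (M : Mod H n B T d D) (M' : Mod H' n' B' T' d' D') (ψ : H' ≃* H)
    (hψ : ∀ x < L, (ψ ⟨sig T' x, M'.all x⟩).1 = sig T x) {w : List ℕ} (hw : ∀ x ∈ w, x < L) :
    ψ (M'.el w) = M.el w := by
  induction w with
  | nil => exact map_one ψ
  | cons x w ih =>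
    have e : M'.el (x :: w) = ⟨sig T' x, M'.all x⟩ * M'.el w := Subtype.ext (ev_cons _ _ _)
    rw [e, map_mul, ih fun y hy => hw y (List.mem_cons_of_mem _ hy)]
    exact Subtype.ext (by rw [Subgroup.coe_mul, hψ x (hw x List.mem_cons_self)]; exact (ev_cons _ _ _).symm)

theorem dual_stab {Ω : Type*} [Fintype Ω] {E : SimpleGraph Ω} [DecidableRel E.Adj]
    {H H' : Subgroup (Equiv.Perm ℕ)} [MulAction H Ω] {a b : Ω} {k l lam mu n B d D n' B' d' D' L : ℕ}
    {T T' : List Net} (A : Abs E H a k l lam mu) (M : Mod H n B T d D) (M' : Mod H' n' B' T' d' D')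
    (ψ : H' ≃* H) (hψ : ∀ x < L, (ψ ⟨sig T' x, M'.all x⟩).1 = sig T x) (hb : E.Adj a b) {exc : ℕ}
    (he : ∀ g ∈ stabilizer H b, ∀ i < n, exc.testBit (g • i) = exc.testBit i) {p m : ℕ} {w : List ℕ}
    (hm : k < 2 * m) (h : Nat.ble m (walk n p T w exc (nat_lit 0) (nat_lit 0)) = true)
    {W : List (List ℕ)} (hW : ∀ w ∈ W, ∀ x ∈ w, x < L) (h2 : invZ T W exc = true) (hk : popc B' D' = k)
    {idx : ℕ} (hH : Nat.card H = k * idx) {As : List (ℕ × List ℕ)}
    (h3 : atomsB T' W As D' (f1 B' idx d' (pt d')) = true) :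
    letI := MulAction.compHom Ω ψ.toMonoidHom; stabilizer H' b = stabilizer H' d' := by
  letI := MulAction.compHom Ω ψ.toMonoidHom
  have A' := A.comp ψ
  have := finite_of_le_Bd M.bd
  have j := walk_le M.ok M.all M.bd (stabS H M.bd exc) (fun _ hg => hg) h
  have iK : (stabilizer H b).index = k := by rw [index_stabilizer, A.orbD hb, A.deg]
  have iK' : (stabilizer H' b).index = k := by rw [index_stabilizer, A'.orbD hb, A.deg]
  have e : stabilizer H b = stabS H M.bd exc := eq_of_le_of_index he (by omega)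
  refine (stab_of_atoms M' (iK'.trans hk.symm) (fun w hw => ?_) ?_ h3).resolve_right fun h => h.1 rfl
  · have := e ▸ M.inv h2 w hw
    rw [← map_el M M' ψ hψ (hW w hw)] at this
    exact this
  · have e1 := (stabilizer H' b).index_mul_card
    rw [iK', Nat.card_congr ψ.toEquiv, hH] at e1
    rw [← relIndex_stabilizer, ← Nat.eq_of_mul_eq_mul_left (Nat.pos_of_ne_zero
      (iK ▸ Subgroup.index_ne_zero_of_finite)) e1]
    exact Subgroup.index_dvd_card _

theorem allIn_gen {L L' : ℕ} {T : List Net} {D : List (List ℕ × List ℕ)}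
    (hD : ∀ e ∈ D, ev (sig T) e.1 = ev (sig T) e.2) (hL : T.length = L')
    (hc : Schur.defsOK L' D (fun x => Nat.ble (Nat.succ x) L) = true) : AllIn (gen (sig T) L) T :=
  AllIn.of_lt (hL ▸ Schur.mem_of_defsOK hD _ (fun _ hx => letter_mem_gen (Nat.le_of_ble_eq_true hx)) hc)

noncomputable def f3' (B k l d S m : Nat) : Bool :=
  f3 B k l d S m || Nat.blt (Nat.mul l k) (Nat.mul k (Nat.sub (Nat.sub k (popc B m)) (nat_lit 1)))

theorem step3' {Ω : Type*} [Fintype Ω] {E : SimpleGraph Ω} [DecidableRel E.Adj]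
    {H : Subgroup (Equiv.Perm ℕ)} [MulAction H Ω] {a : Ω} {k l lam mu n B d D : ℕ} {T : List Net}
    (hl : l ≠ 0) (A : Abs E H a k l lam mu) (M : Mod H n B T d D) {b : Ω} (hb : E.Adj a b)
    (hs : stabilizer H b = stabilizer H d) {W : List (List ℕ)} (hd : invZ T W (pt d) = true) {S : ℕ}
    {As : List (ℕ × List ℕ)} (h : atomsB T W As D (f3' B k l d S) = true) :
    (∃ f, Loc E H a b n d D S f) ∧ popc B S = lam ∧ k * (k - lam - 1) = l * mu := by
  obtain ⟨f, hf⟩ := exists_map hs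
  have e0 : k * (k - lam - 1) = l * mu := by
    rw [SimpleGraph.IsSRGWith.param_eq E A.srg (by omega)]; congr 1; omega
  obtain ⟨m, h1, h2, h3⟩ := atoms_sound M.ok h M.lt (X := {y | y ∈ bset n D ∧ E.Adj b (f y)})
    (fun w hw i => by
      rw [← M.el_smul]
      simp only [Set.mem_setOf_eq, M.smul_mem]
      refine and_congr_right fun hi => ?_
      obtain ⟨g, rfl⟩ := M.ex hi
      have : M.el w ∈ stabilizer H b := hs ▸ M.fix hd w hw
      rw [← mul_smul, hf, hf, mul_smul, ← A.adj (M.el w) b (g • b), mem_stabilizer_iff.mp this])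
    fun _ h => h.1
  have e1 : popc B m = lam := by
    rw [← ncard_bset M.hB h1, ← h2, ← M.orb, map_ncard hs hf (E.Adj b), A.orbD hb]
    have := A.cn a b
    rwa [if_neg hb.ne, if_pos hb] at this
  have e2 : mu ≤ k := by
    obtain ⟨c, hc⟩ : {x | x ≠ a ∧ ¬ E.Adj a x}.Nonempty :=
      Set.nonempty_of_ncard_ne_zero (by rwa [A.cardG])
    have := A.cn a c
    rw [if_neg hc.1.symm, if_neg hc.2] at this
    rw [← this, ← A.deg a]
    exact Set.ncard_le_ncard fun _ h => h.1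
  simp only [f3', f3, frc_eq, e1, Nat.blt_eq, Bool.or_eq_true, Nat.beq_eq, Bool.not_eq_true', ← Bool.not_eq_true,
    bitB_eq] at h3
  rcases h3 with ((h3 | rfl) | h3 | h3) | h3
  · have : d ∈ {y | y ∈ bset n D ∧ E.Adj b (f y)} := h2 ▸ ⟨M.dn, h3⟩
    have e := hf 1
    rw [one_smul, one_smul] at e
    exact absurd (e ▸ this.2) E.irrefl
  · exact ⟨⟨f, hb, hs, hf, h1, h2⟩, e1, e0⟩
  · exact absurd h3 A.nb
  · exact absurd (Nat.mod_eq_zero_of_dvd ⟨mu, e0⟩) h3
  · exact absurd (e0.le.trans (Nat.mul_le_mul_left l e2)) (not_le.mpr h3)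

theorem steps' {Ω : Type*} [Fintype Ω] {E : SimpleGraph Ω} [DecidableRel E.Adj]
    {H : Subgroup (Equiv.Perm ℕ)} [MulAction H Ω] {a b : Ω} {k l lam mu n B d D S : ℕ} {T : List Net}
    (A : Abs E H a k l lam mu) (M : Mod H n B T d D) (hb : E.Adj a b)
    (hs : stabilizer H b = stabilizer H d) {W : List (List ℕ)} (hd : invZ T W (pt d) = true)
    {As3 : List (ℕ × List ℕ)} (h3 : atomsB T W As3 D (f3' B k l d S) = true) {lam0 mu0 : ℕ}
    (e1 : Nat.beq (popc B S) lam0 = true) (e2 : k * (k - lam0 - 1) = l * mu0)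
    {c0 c1 : ℕ} {Y : List (ℕ × List ℕ)} (h4 : quadB B k l lam0 mu0 c0 c1 d D S T Y = true) {p e : ℕ}
    (hp : p.Prime) (hl : ¬ p ∣ l) {Q : List (ℕ × List (List ℕ))}
    (hE : ∀ x ∈ pcE (p ^ e) Q, ev (sig T) x.1 = ev (sig T) x.2) (hS : pcS Q = true)
    {As : List (ℕ × List ℕ)} {e0 : List ℕ × ℕ × List ℕ} {C : List (List ℕ × ℕ × List ℕ)}
    (hC : ConsOK d D T (pcW Q) As (Y.map Prod.fst) (e0 :: C)) {sols : List (ℕ × List ℕ × ℕ)} {t : Dt}
    (ht : dp c0 c1 Y.length (ivl 0 As.length) e0.2 (C.map Prod.snd) (sols.map Prod.fst) t 0 0 = true)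
    (hsol : solB D T (pcW Q) As sols = true) {good bad : List ℕ}
    (h6 : ∀ s ∈ sols, s.2.2 ∈ good ∨ s.2.2 ∈ bad) {r : ℕ} {w : List ℕ}
    (h7 : ∀ Z ∈ bad, badB n r l D T w Z = true) : mu = mu0 ∧ ∃ f, Loc E H a b n d D S f ∧
      ∃ Z ∈ good, ∃ c, (c ≠ a ∧ ¬ E.Adj a c) ∧ ∀ y ∈ bset n D, (E.Adj c (f y) ↔ Z.testBit y) := by
  obtain ⟨⟨f, L⟩, a1, a2⟩ := step3' (show l ≠ 0 from fun e => hl (e ▸ dvd_zero p)) A M hb hs hd h3
  obtain rfl : lam = lam0 := a1.symm.trans (Nat.eq_of_beq_eq_true e1)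
  obtain rfl : mu = mu0 := Nat.eq_of_mul_eq_mul_left
    (Nat.pos_of_ne_zero (show l ≠ 0 from fun e => hl (e ▸ dvd_zero p))) (a2.symm.trans e2)
  obtain ⟨s, s1, c, s2, s3⟩ := step5 L A M h4 hp hl hE hS hC ht hsol
  rcases h6 s s1 with h | h
  · exact ⟨rfl, f, L, _, h, c, s2, s3⟩
  · have := (band_eq _ _).mp (h7 _ h)
    exact (L.bad A M s2 s3 this.1 this.2).elim

end Cfsg.Agent.R3
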