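import Cfsg.Agent.R3.Dp

set_option autoImplicit false

/-! Identification of the graph with the graph of the model. -/

namespace Cfsg.Agent.R3
open MulAction Cfsg.Agent.Comp Cfsg.Agent.Schur

/-- adjacency in the model -/
def adj0 (M : Subgroup (Equiv.Perm ℕ)) (n D x y : ℕ) : Prop :=
  ∃ g ∈ M, g 0 = x ∧ g⁻¹ y ∈ bset n D

theorem adj0_smul {M : Subgroup (Equiv.Perm ℕ)} {n D : ℕ} {m : Equiv.Perm ℕ} (hm : m ∈ M) (x y : ℕ) :
    adj0 M n D (m x) (m y) ↔ adj0 M n D x y :=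
  ⟨fun ⟨g, h1, h2, h3⟩ => ⟨m⁻¹ * g, M.mul_mem (M.inv_mem hm) h1, by simp [h2], by simpa using h3⟩,
    fun ⟨g, h1, h2, h3⟩ => ⟨m * g, M.mul_mem hm h1, by simp [h2], by simpa using h3⟩⟩

noncomputable def topB (n : Nat) (R : List Net) (d D q G S Z N : Nat) (ud uq : List Nat) : Bool :=
  band (Nat.beq (Nat.lor (nat_lit 1) (Nat.lor D G)) (ivl (nat_lit 0) n))
  (band (Nat.beq (Nat.land D (Nat.lor (nat_lit 1) G)) (nat_lit 0)) (band (!bitB G (nat_lit 0))
  (band (mem1 R ud (pt (nat_lit 0)) d) (band (mem1 R ud D (nat_lit 0))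
  (band (mem1 R uq (pt (nat_lit 0)) q) (band (Nat.beq S (Nat.land D (runZ (nat_lit 1) R ud D)))
  (band (Nat.beq Z (Nat.land D (runZ (nat_lit 1) R uq D)))
    (Nat.beq N (Nat.land G (runZ (nat_lit 1) R uq D))))))))))

/-- the model: a rank 3 group `M` with point stabiliser `H` -/
structure Top (M H : Subgroup (Equiv.Perm ℕ)) (n B : ℕ) (T R : List Net) (d D q G S Z N : ℕ) :
    Prop where
  m1 : Mod H n B T d D
  m2 : Mod H n B T q G
  st : ∀ g, g ∈ H ↔ g ∈ M ∧ g 0 = 0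
  ok : TOK n R
  all : AllIn M R
  bd : M ≤ Bd n
  chk : ∃ ud uq, topB n R d D q G S Z N ud uq = true

variable {M H : Subgroup (Equiv.Perm ℕ)} {n B d D q G S Z N : ℕ} {T R : List Net}

theorem Top.row (X : Top M H n B T R d D q G S Z N) {g : Equiv.Perm ℕ} (hg : g ∈ M) {x : ℕ}
    (hx : g x = 0) (y : ℕ) : adj0 M n D x y ↔ g y ∈ bset n D := by
  refine ⟨fun ⟨g', h1, h2, h3⟩ => ?_, fun h => ⟨g⁻¹, M.inv_mem hg, by simp [← hx], by simpa using h⟩⟩
  have := (X.m1.smul_mem ⟨g * g', (X.st _).mpr ⟨M.mul_mem hg h1, by simp [h2, hx]⟩⟩ _).mpr h3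
  simpa [Subgroup.smul_def] using this

theorem Top.pos (X : Top M H n B T R d D q G S Z N) : 0 < n := Nat.zero_lt_of_lt X.m1.dn

theorem Top.rowW (X : Top M H n B T R d D q G S Z N) {u : List ℕ} {x : ℕ} (hx : x < n)
    (h : mem1 R u (pt (nat_lit 0)) x = true) {y : ℕ} (hy : y < n) :
    (runZ (nat_lit 1) R u D).testBit y ↔ adj0 M n D x y := by
  rw [X.row (ev_mem fun z _ => X.all z) (mem1_pt X.ok hx h), runZ_eq, testBit_runW1 X.ok _ _ hy]
  exact ⟨fun h => ⟨Bd.lt (X.ok.ev_mem u) hy, h⟩, fun h => h.2⟩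

theorem Top.facts (X : Top M H n B T R d D q G S Z N) :
    (∀ i < n, i = 0 ∨ i ∈ bset n D ∨ i ∈ bset n G) ∧ (∀ i ∈ bset n D, i ≠ 0 ∧ i ∉ bset n G) ∧
    0 ∉ bset n G ∧ (∀ x y, adj0 M n D x y → adj0 M n D y x) ∧
    (∀ y < n, S.testBit y ↔ D.testBit y ∧ adj0 M n D d y) ∧
    (∀ y < n, Z.testBit y ↔ D.testBit y ∧ adj0 M n D q y) ∧
    ∀ y < n, N.testBit y ↔ G.testBit y ∧ adj0 M n D q y := by
  obtain ⟨ud, uq, h⟩ := X.chk
  simp only [topB, band_eq, Nat.beq_eq, Bool.not_eq_true', bitB_eq] at h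
  obtain ⟨h1, h2, h3, h4, h5, h6, rfl, rfl, rfl⟩ := h
  refine ⟨fun i hi => ?_, fun i hi => ?_, fun h => by simp [h.2] at h3, ?_, fun y hy => ?_,
    fun y hy => ?_, fun y hy => ?_⟩
  · have := congrArg (fun m => m.testBit i) h1
    simp only [testBit_lor, testBit_ivl] at this
    simpa [bset, hi, Nat.testBit_one_eq_true_iff_self_eq_zero, or_assoc] using this
  · have := congrArg (fun m => m.testBit i) h2
    simp only [testBit_lor, testBit_land, hi.2] at this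
    have e : ¬ (Nat.testBit 1 i = true) ∧ ¬ (G.testBit i = true) := by simpa using this
    exact ⟨fun h => e.1 (by simp [h]), fun h => e.2 h.2⟩
  · rintro _ y ⟨g, a1, rfl, a2⟩
    obtain ⟨h, hh⟩ := X.m1.ex a2
    have a3 := (X.st _).mp h.2
    have a4 : ev (sig R) ud ∈ M := ev_mem fun z _ => X.all z
    have a5 : ev (sig R) ud d = 0 := mem1_pt X.ok X.m1.dn h4
    rw [mem1_eq X.ok _ _ X.pos] at h5
    refine ⟨g * h.1 * (ev (sig R) ud)⁻¹, M.mul_mem (M.mul_mem a1 a3.1) (M.inv_mem a4), ?_, ?_⟩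
    · rw [← a5]
      simp [show h.1 d = g⁻¹ y from hh]
    · have : h.1⁻¹ 0 = 0 := by rw [Equiv.Perm.inv_eq_iff_eq, a3.2]
      rw [mul_inv_rev, mul_inv_rev, inv_inv, Equiv.Perm.mul_apply, Equiv.Perm.mul_apply,
        show g⁻¹ (g 0) = 0 by simp, this]
      exact ⟨Bd.lt (X.ok.ev_mem ud) X.pos, h5⟩
  · rw [testBit_land, Bool.and_eq_true, X.rowW X.m1.dn h4 hy]
  · rw [testBit_land, Bool.and_eq_true, X.rowW X.m2.dn h6 hy]
  · rw [testBit_land, Bool.and_eq_true, X.rowW X.m2.dn h6 hy]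

theorem eq_of_le_of_index {H : Type*} [Group H] [Finite H] {K J : Subgroup H} (h : K ≤ J)
    (h2 : K.index < 2 * J.index) : K = J := by
  have e := Subgroup.relIndex_mul_index h
  have e0 : K.index ≠ 0 := K.index_ne_zero_of_finite
  refine le_antisymm h (Subgroup.relIndex_eq_one.mp ?_)
  rcases hr : K.relIndex J with _ | _ | r
  · simp [hr] at e; omega
  · rfl
  · rw [hr] at e; nlinarith

/-- the stabiliser of a bit set -/
def stabS (H : Subgroup (Equiv.Perm ℕ)) {n : ℕ} (hb : H ≤ Bd n) (Z : ℕ) : Subgroup H where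
  carrier := {g | ∀ i < n, Z.testBit (g • i) = Z.testBit i}
  mul_mem' := fun {x y} hx hy i hi => by rw [mul_smul, hx (y • i) (Bd.lt (hb y.2) hi), hy i hi]
  one_mem' := fun i _ => by rw [one_smul]
  inv_mem' := fun {x} hx i hi => by rw [← hx (x⁻¹ • i) (Bd.lt (hb x⁻¹.2) hi), smul_inv_smul]

variable {Ω : Type*} [Fintype Ω] {E : SimpleGraph Ω} [DecidableRel E.Adj] [MulAction H Ω] {a b c : Ω}
  {k l lam mu : ℕ} {f : ℕ → Ω}

theorem Loc.stab_le (L : Loc E H a b n d D S f) (A : Abs E H a k l lam mu) (M : Mod H n B T d D)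
    (hc : ∀ y ∈ bset n D, (E.Adj c (f y) ↔ Z.testBit y)) (hZ : ∀ y < n, Z.testBit y → D.testBit y) :
    stabilizer H c ≤ stabS H M.bd Z := fun g hg i hi => by
  by_cases h : i ∈ bset n D
  · rw [Bool.eq_iff_iff, ← hc i h, ← hc _ ((M.smul_mem g i).mpr h), L.eqv M _ h, ← A.adj g c (f i),
      mem_stabilizer_iff.mp hg]
  · rw [Bool.eq_iff_iff]
    exact ⟨fun h' => absurd ((M.smul_mem g i).mp ⟨M.smul_lt g hi, hZ _ (M.smul_lt g hi) h'⟩) h,
      fun h' => absurd ⟨hi, hZ _ hi h'⟩ h⟩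

theorem Abs.indG {H : Type*} [Group H] [MulAction H Ω] (A : Abs E H a k l lam mu)
    (hc : c ≠ a ∧ ¬ E.Adj a c) : (stabilizer H c).index = l := by
  rw [index_stabilizer, A.orbG hc, A.cardG]

/-- a set with too many images -/
theorem Loc.bad (L : Loc E H a b n d D S f) (A : Abs E H a k l lam mu) (M : Mod H n B T d D)
    (hc0 : c ≠ a ∧ ¬ E.Adj a c) (hc : ∀ y ∈ bset n D, (E.Adj c (f y) ↔ Z.testBit y))
    (hZ : Nat.beq (Nat.land D Z) Z = true) {p : ℕ} {w : List ℕ}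
    (h : Nat.ble (Nat.succ l) (walk n p T w Z (nat_lit 0) (nat_lit 0)) = true) : False := by
  have := walk_le M.ok M.all M.bd _ (L.stab_le A M hc fun y _ hy => by
    rw [← Nat.eq_of_beq_eq_true hZ, testBit_land, Bool.and_eq_true] at hy; exact hy.1) h
  rw [A.indG hc0] at this
  omega

noncomputable def f6 (B k mu q N m : Nat) : Bool :=
  bitB m q || Nat.beq m N || !(Nat.beq (Nat.add mu (popc B m)) k)

theorem step6 (X : Top M H n B T R d D q G S Z N) (A : Abs E H a k l lam mu)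
    (L : Loc E H a b n d D S f) (hn : 1 + k + l = n) (hl : popc B G = l) (hc0 : c ≠ a ∧ ¬ E.Adj a c)
    (hc : ∀ y ∈ bset n D, (E.Adj c (f y) ↔ Z.testBit y)) {p m : ℕ} {w : List ℕ} (hm : l < 2 * m)
    (h : Nat.ble m (walk n p T w Z (nat_lit 0) (nat_lit 0)) = true) {W : List (List ℕ)}
    (hq : invZ T W (pt q) = true) {As : List (ℕ × List ℕ)}
    (hA : atomsB T W As G (f6 B k mu q N) = true) :
    ∃ ι : Ω ↪ ℕ, (∀ x, ι x < n) ∧ (∀ i < n, ∃ x, ι x = i) ∧
      ∀ x y, E.Adj x y ↔ adj0 M n D (ι x) (ι y) := by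
  classical
  obtain ⟨t1, t2, t3, t4, t5, t6, t7⟩ := X.facts
  have := finite_of_le_Bd X.m1.bd
  have hH : ∀ (h : H) x y, adj0 M n D (h • x) (h • y) ↔ adj0 M n D x y := fun h =>
    adj0_smul ((X.st _).mp h.2).1
  have j := walk_le X.m1.ok X.m1.all X.m1.bd (stabS H X.m1.bd Z) (fun _ hg => hg) h
  have hs : stabilizer H c = stabilizer H q := by
    rw [eq_of_le_of_index (L.stab_le A X.m1 hc fun y hy h => ((t6 y hy).mp h).1)
      (by rw [A.indG hc0]; omega)]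
    refine (eq_of_le_of_index (fun g hg i hi => ?_) (by rw [X.m2.index]; omega)).symm
    rw [Bool.eq_iff_iff, t6 i hi, t6 _ (X.m1.smul_lt g hi), ← hH g q i, mem_stabilizer_iff.mp hg]
    exact and_congr_left' ⟨fun h => ((X.m1.smul_mem g i).mp ⟨X.m1.smul_lt g hi, h⟩).2,
      fun h => ((X.m1.smul_mem g i).mpr ⟨hi, h⟩).2⟩
  obtain ⟨f2, hf⟩ := exists_map hs
  obtain ⟨m', h1, h2, h3⟩ := atoms_sound X.m2.ok hA X.m2.lt
    (X := {y | y ∈ bset n G ∧ E.Adj c (f2 y)}) (fun w hw i => by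
      rw [← X.m2.el_smul]
      simp only [Set.mem_setOf_eq, X.m2.smul_mem]
      refine and_congr_right fun hi => ?_
      obtain ⟨g, rfl⟩ := X.m2.ex hi
      have : X.m2.el w ∈ stabilizer H c := hs ▸ X.m2.fix hq w hw
      rw [← mul_smul, hf, hf, mul_smul, ← A.adj (X.m2.el w) c (g • c), mem_stabilizer_iff.mp this])
    fun _ h => h.1
  have e1 : mu + popc B m' = k := by
    rw [← ncard_bset X.m2.hB h1, ← h2, ← X.m2.orb, map_ncard hs hf (E.Adj c), A.orbG hc0]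
    have a1 := A.cn a c
    rw [if_neg hc0.1.symm, if_neg hc0.2] at a1
    have a2 := Abs.split (insert a {x | E.Adj c x}) a (Set.mem_insert _ _) E
    rw [Set.ncard_insert_of_notMem (s := {x | E.Adj c x}) (fun h => hc0.2 (E.adj_symm h)), A.deg,
      show {x | E.Adj a x ∧ x ∈ insert a {x | E.Adj c x}} = {z | E.Adj a z ∧ E.Adj c z} from
        Set.ext fun x => and_congr_right fun h => by simp [h.ne'], a1,
      show {x | (x ≠ a ∧ ¬ E.Adj a x) ∧ x ∈ insert a {x | E.Adj c x}} =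
        {x | x ∈ {x | x ≠ a ∧ ¬ E.Adj a x} ∧ E.Adj c x} from
        Set.ext fun x => and_congr_right fun h => by simp [h.1]] at a2
    omega
  have fq : f2 q = c := by simpa using hf 1
  have e2 : m' = N := by
    simp only [f6, Bool.or_eq_true, Nat.beq_eq, Bool.not_eq_true', ← Bool.not_eq_true, bitB_eq] at h3
    rcases h3 with (h3 | h3) | h3
    · have : q ∈ {y | y ∈ bset n G ∧ E.Adj c (f2 y)} := h2 ▸ ⟨X.m2.dn, h3⟩
      exact absurd (fq ▸ this.2) E.irrefl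
    · exact h3
    · exact absurd e1 h3
  subst e2
  let φ : ℕ → Ω := fun x => if x = 0 then a else if x ∈ bset n D then f x else f2 x
  have p0 : φ 0 = a := if_pos rfl
  have p1 : ∀ x ∈ bset n D, φ x = f x := fun x hx => by simp only [φ, if_neg (t2 x hx).1, if_pos hx]
  have p2 : ∀ x ∈ bset n G, φ x = f2 x := fun x hx => by
    simp only [φ, if_neg (show x ≠ 0 from fun e => t3 (e ▸ hx)), if_neg fun h => (t2 x h).2 hx]
  have dD : d ∈ bset n D := X.m1.orb ▸ mem_orbit_self d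
  have qG : q ∈ bset n G := X.m2.orb ▸ mem_orbit_self q
  have p3 : ∀ (h : H), ∀ x < n, φ (h • x) = h • φ x := fun h x hx => by
    rcases t1 x hx with rfl | hx | hx
    · rw [show h • 0 = 0 from ((X.st _).mp h.2).2, p0, A.fa]
    · rw [p1 _ hx, p1 _ ((X.m1.smul_mem h x).mpr hx), L.eqv X.m1 _ hx]
    · rw [p2 _ hx, p2 _ ((X.m2.smul_mem h x).mpr hx)]
      obtain ⟨g, rfl⟩ := X.m2.ex hx
      rw [← mul_smul, hf, hf, mul_smul]
  let P : ℕ → ℕ → Prop := fun x y => E.Adj (φ x) (φ y) ↔ adj0 M n D x y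
  have sy : ∀ x y, P x y → P y x := fun x y h =>
    (E.adj_comm _ _).trans (h.trans ⟨t4 _ _, t4 _ _⟩)
  have mv : ∀ (h : H), ∀ x < n, ∀ y < n, P x (h⁻¹ • y) → P (h • x) y := fun h x hx y hy hP => by
    simp only [P] at hP ⊢
    rwa [← A.adj h, ← hH h, ← p3 h _ hx, ← p3 h _ (X.m1.smul_lt _ hy), smul_inv_smul] at hP
  have P0 : ∀ y < n, P 0 y := fun y hy => by
    simp only [P]
    rw [X.row M.one_mem rfl, p0, Equiv.Perm.one_apply]
    rcases t1 y hy with rfl | hy | hy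
    · rw [p0]; exact ⟨fun h => absurd h E.irrefl, fun h => absurd rfl (t2 0 h).1⟩
    · rw [p1 y hy]; exact ⟨fun _ => hy, fun _ => L.fadj A X.m1 hy⟩
    · refine ⟨fun h => ?_, fun h => absurd hy (t2 y h).2⟩
      obtain ⟨g, rfl⟩ := X.m2.ex hy
      rw [p2 _ hy, hf, ← A.fa g, A.adj] at h
      exact absurd h hc0.2
  have P1 : ∀ x ∈ bset n G, ∀ y < n, P x y := fun x hx y hy => by
    obtain ⟨g, rfl⟩ := X.m2.ex hx
    refine mv g q qG.1 y hy ?_
    have hy := X.m1.smul_lt g⁻¹ hy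
    generalize g⁻¹ • y = y at hy
    rcases t1 y hy with rfl | hy' | hy'
    · exact sy _ _ (P0 q qG.1)
    · simp only [P]
      rw [p2 q qG, fq, p1 y hy', hc y hy', t6 y hy]
      exact and_iff_right hy'.2
    · simp only [P]
      have := Set.ext_iff.mp h2 y
      rw [p2 q qG, fq, p2 y hy', ← and_iff_right (b := adj0 M n D q y) hy'.2, ← t7 y hy]
      exact ⟨fun h => (this.mp ⟨hy', h⟩).2, fun h => (this.mpr ⟨hy, h⟩).2⟩
  have P2 : ∀ x < n, ∀ y < n, P x y := fun x hx y hy => by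
    rcases t1 x hx with rfl | hx' | hx'
    · exact P0 y hy
    · obtain ⟨g, rfl⟩ := X.m1.ex hx'
      refine mv g d dD.1 y hy ?_
      have hy := X.m1.smul_lt g⁻¹ hy
      generalize g⁻¹ • y = y at hy
      rcases t1 y hy with rfl | hy' | hy'
      · exact sy _ _ (P0 d dD.1)
      · simp only [P]
        have := Set.ext_iff.mp L.row y
        rw [p1 d dD, L.fd, p1 y hy', ← and_iff_right (b := adj0 M n D d y) hy'.2, ← t5 y hy]
        exact ⟨fun h => (this.mp ⟨hy', h⟩).2, fun h => (this.mpr ⟨hy, h⟩).2⟩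
      · exact sy _ _ (P1 y hy' d dD.1)
    · exact P1 x hx' y hy
  have bij : Function.Bijective fun i : Fin n => φ i := by
    refine (Fintype.bijective_iff_surjective_and_card _).mpr ⟨fun x => ?_, by simp [A.srg.card, hn]⟩
    by_cases h1 : x = a
    · exact ⟨⟨0, X.pos⟩, h1 ▸ p0⟩
    by_cases h2 : E.Adj a x
    · obtain ⟨g, rfl⟩ := A.trD b x L.adj h2
      exact ⟨⟨g • d, X.m1.smul_lt g dD.1⟩, (p3 g d dD.1).trans (by rw [p1 d dD, L.fd])⟩
    · obtain ⟨g, rfl⟩ := A.trG c x hc0.1 hc0.2 h1 h2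
      exact ⟨⟨g • q, X.m1.smul_lt g qG.1⟩, (p3 g q qG.1).trans (by rw [p2 q qG, fq])⟩
  let e := Equiv.ofBijective _ bij
  refine ⟨e.symm.toEmbedding.trans Fin.valEmbedding, fun x => (e.symm x).2,
    fun i hi => ⟨e ⟨i, hi⟩, by simp⟩, fun x y => ?_⟩
  have := P2 _ (e.symm x).2 _ (e.symm y).2
  simp only [P] at this
  rwa [show φ (e.symm x) = x from e.apply_symm_apply x,
    show φ (e.symm y) = y from e.apply_symm_apply y] at this

end Cfsg.Agent.R3
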