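import Cfsg.Agent.R3.Aut

set_option autoImplicit false

/-! Recognition of rank 3 groups: the steps put together. -/

namespace Cfsg.Agent.R3
open MulAction Cfsg.Agent.Comp Cfsg.Agent.Schur

theorem stab_iff {G : Type*} [Group G] {s : ℕ → G} {L n : ℕ} {T : List Net} {φ : G →* Equiv.Perm ℕ}
    (h : Rep s L n T φ) {W : List (List ℕ)} (hW : ∀ w ∈ W, ∀ x ∈ w, x < L)
    (hs : ∀ g, g ∈ genW s W ↔ φ g 0 = 0) (g : Equiv.Perm ℕ) :
    g ∈ genW (sig T) W ↔ g ∈ φ.range ∧ g 0 = 0 := by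
  rw [← h.map_genW hW]
  exact ⟨by rintro ⟨x, hx, rfl⟩; exact ⟨⟨x, rfl⟩, (hs x).mp hx⟩,
    by rintro ⟨⟨x, rfl⟩, hx⟩; exact ⟨x, (hs x).mpr hx, rfl⟩⟩

theorem allIn_stab {M H : Subgroup (Equiv.Perm ℕ)} (hs : ∀ g, g ∈ H ↔ g ∈ M ∧ g 0 = 0) {n o : ℕ}
    {T T' : List Net} (hT : TOK n T) (h : AllIn M (T ++ T')) (ho : T.length = o)
    (hf : invZ T (letters o) (pt 0) = true) : AllIn H T :=
  AllIn.of_lt fun x hx => (hs _).mpr ⟨by
    have := h x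
    rwa [sig, nth_eq, List.getD_append _ _ _ _ hx, ← nth_eq] at this,
    fix_of_invS hT (invZ_eq ▸ hf) (letter_mem_gen (ho ▸ hx))⟩

theorem eqs_base {K : Subgroup (Equiv.Perm ℕ)} {n : ℕ} {T : List Net} (hT : TOK n T) (hA : AllIn K T)
    {K' : Subgroup (Equiv.Perm ℕ)} (hK : K ≤ K') {bs : List ℕ} (hB : IsBase K' bs) (hb : ∀ b ∈ bs, b < n)
    {E : List (List ℕ × List ℕ)} (h : eqsZ n bs T E = true) :
    ∀ e ∈ E, ev (sig T) e.1 = ev (sig T) e.2 :=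
  hB.eqs hT hb (fun _ _ => ⟨hK (ev_mem fun x _ => hA x), hK (ev_mem fun x _ => hA x)⟩) (eqsZ_eq ▸ h)

theorem lt_of_shift {D n : ℕ} (h : Nat.beq (Nat.shiftRight D n) (nat_lit 0) = true) : D < 2 ^ n := by
  have : D >>> n = 0 := Nat.eq_of_beq_eq_true h
  rwa [Nat.shiftRight_eq_div_pow, Nat.div_eq_zero_iff_lt (by positivity)] at this

theorem dp_congr {c0 c1 len full len' full' : ℕ} {e0 e0' : ℕ × List ℕ} {C C' : List (ℕ × List ℕ)}
    {sols sols' : List ℕ} {t : Dt} (h : dp c0 c1 len full e0 C sols t (nat_lit 0) (nat_lit 0) = true)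
    (e : len' = len ∧ full' = full ∧ e0' = e0 ∧ C' = C ∧ sols' = sols) :
    dp c0 c1 len' full' e0' C' sols' t 0 0 = true := by
  obtain ⟨rfl, rfl, rfl, rfl, rfl⟩ := e
  exact h

theorem dp_br {c0 c1 len full : ℕ} {e0 : ℕ × List ℕ} {C : List (ℕ × List ℕ)} {sols : List ℕ} {i : ℕ}
    {l r : Dt} {I O I' O' : ℕ} (h1 : dp c0 c1 len full e0 C sols l I' O = true)
    (h2 : dp c0 c1 len full e0 C sols r I O' = true) (e : Nat.lor I (pt i) = I' ∧ Nat.lor O (pt i) = O') :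
    dp c0 c1 len full e0 C sols (Dt.br i l r) I O = true := by
  obtain ⟨rfl, rfl⟩ := e
  exact (band_eq _ _).mpr ⟨(frc_eq _ _).trans h1, (frc_eq _ _).trans h2⟩

noncomputable def badB (n p l D : Nat) (T : List Net) (w : List Nat) (Z : Nat) : Bool :=
  band (Nat.beq (Nat.land D Z) Z) (Nat.ble (Nat.succ l) (walk n p T w Z (nat_lit 0) (nat_lit 0)))

theorem steps {Ω : Type*} [Fintype Ω] {E : SimpleGraph Ω} [DecidableRel E.Adj]
    {H : Subgroup (Equiv.Perm ℕ)} [MulAction H Ω] {a b : Ω} {k l lam mu n B d D S : ℕ} {T : List Net}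
    (A : Abs E H a k l lam mu) (M : Mod H n B T d D) (hb : E.Adj a b)
    (hs : stabilizer H b = stabilizer H d) {W : List (List ℕ)} (hd : invZ T W (pt d) = true)
    {As3 : List (ℕ × List ℕ)} (h3 : atomsB T W As3 D (f3 B k l d S) = true) {lam0 mu0 : ℕ}
    (e1 : Nat.beq (popc B S) lam0 = true) (e2 : k * (k - lam0 - 1) = l * mu0)
    {c0 c1 : ℕ} {Y : List (ℕ × List ℕ)} (h4 : quadB B k l lam0 mu0 c0 c1 d D S T Y = true) {p e : ℕ}
    (hp : p.Prime) (hl : ¬ p ∣ l) {Q : List (ℕ × List (List ℕ))}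
    (hE : ∀ x ∈ pcE (p ^ e) Q, ev (sig T) x.1 = ev (sig T) x.2) (hS : pcS Q = true)
    {As : List (ℕ × List ℕ)} {e0 : List ℕ × ℕ × List ℕ} {C : List (List ℕ × ℕ × List ℕ)}
    (hC : ConsOK d D T (pcW Q) As (Y.map Prod.fst) (e0 :: C)) {sols : List (ℕ × List ℕ × ℕ)} {t : Dt}
    (ht : dp c0 c1 Y.length (ivl 0 As.length) e0.2 (C.map Prod.snd) (sols.map Prod.fst) t 0 0 = true)
    (hsol : solB D T (pcW Q) As sols = true) {good bad : List ℕ}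
    (h6 : ∀ s ∈ sols, s.2.2 ∈ good ∨ s.2.2 ∈ bad) {r : ℕ} {w : List ℕ}
    (h7 : ∀ Z ∈ bad, badB n r l D T w Z = true) : mu = mu0 ∧ ∃ f, Loc E H a b n d D S f ∧
      ∃ Z ∈ good, ∃ c, (c ≠ a ∧ ¬ E.Adj a c) ∧ ∀ y ∈ bset n D, (E.Adj c (f y) ↔ Z.testBit y) := by
  obtain ⟨⟨f, L⟩, a1, a2⟩ := step3 A M hb hs hd h3
  obtain rfl : lam = lam0 := a1.symm.trans (Nat.eq_of_beq_eq_true e1)
  obtain rfl : mu = mu0 := Nat.eq_of_mul_eq_mul_left
    (Nat.pos_of_ne_zero (show l ≠ 0 from fun e => hl (e ▸ dvd_zero p))) (a2.symm.trans e2)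
  obtain ⟨s, s1, c, s2, s3⟩ := step5 L A M h4 hp hl hE hS hC ht hsol
  rcases h6 s s1 with h | h
  · exact ⟨rfl, f, L, _, h, c, s2, s3⟩
  · have := (band_eq _ _).mp (h7 _ h)
    exact (L.bad A M s2 s3 this.1 this.2).elim

theorem glue.{u} {M H : Subgroup (Equiv.Perm ℕ)} {n B d D q G S Z N k l : ℕ} {T R : List Net}
    (X : Top M H n B T R d D q G S Z N) [IsSimpleGroup M] {P : List Ai} {bd r m : ℕ}
    (h : autB n B D R P [] bd = true) (hr : r.Prime) (hM : Nat.card M = n * m) (hH : Nat.card H = m)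
    (h1 : r ∣ n * m ∧ bd < r * (n * m) ∧ 1 + k + l = n ∧ 1 < k ∧ 1 < l ∧ k ≠ l ∧ ¬ k + 1 ∣ n)
    (core : ∀ {Ω : Type u} [Fintype Ω] (E : SimpleGraph Ω) [DecidableRel E.Adj] [MulAction H Ω] (a : Ω)
      (lam mu : ℕ), Abs E H a k l lam mu → ∃ ι : Ω ↪ ℕ, (∀ x, ι x < n) ∧ (∀ i < n, ∃ x, ι x = i) ∧
        ∀ x y, E.Adj x y ↔ adj0 M n D (ι x) (ι y))
    {Ω : Type u} [Fintype Ω] [DecidableEq Ω] (hΩ : Fintype.card Ω = n) (Γ : Subgroup (Equiv.Perm Ω))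
    [IsPretransitive Γ Ω] (a : Ω) (e : H ≃* stabilizer Γ a) (b c : Ω)
    (hb : (orbit (stabilizer Γ a) b).ncard = k) (hc : (orbit (stabilizer Γ a) c).ncard = l) :
    Nonempty (Γ ≃* M) := by
  obtain ⟨a1, a2, a3, a4, a5, a6, a7⟩ := h1
  obtain ⟨E, _, lam, mu, A, hE⟩ := exists_abs Γ a b c (hΩ.trans a3.symm) hb hc a4 a5 a6 (a3 ▸ a7)
  letI := MulAction.compHom Ω e.toMonoidHom
  refine final X h hr (hM ▸ a1) (hM ▸ a2) hE ?_ (core E a lam mu (A.comp e))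
  rw [hM, ← (stabilizer Γ a).index_mul_card, index_stabilizer_of_transitive, Nat.card_eq_fintype_card,
    hΩ, ← Nat.card_congr e.toEquiv, hH]

end Cfsg.Agent.R3
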