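import Cfsg.Agent.R3.Core

set_option autoImplicit false

/-! Linear equations for the common neighbours of two nonadjacent points. -/

namespace Cfsg.Agent.R3
open MulAction Cfsg.Agent.Comp Cfsg.Agent.Schur

variable {Ω : Type*} [Fintype Ω] {E : SimpleGraph Ω} [DecidableRel E.Adj]
  {H : Subgroup (Equiv.Perm ℕ)} [MulAction H Ω] {a b : Ω} {k l lam mu n B d D S : ℕ} {T : List Net}
  {f : ℕ → Ω}

theorem testBit_land (x y i : ℕ) : (Nat.land x y).testBit i = (x.testBit i && y.testBit i) :=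
  Nat.testBit_land _ _ _

theorem testBit_lor (x y i : ℕ) : (Nat.lor x y).testBit i = (x.testBit i || y.testBit i) :=
  Nat.testBit_lor _ _ _

theorem land_lt {x n : ℕ} (h : x < 2 ^ n) (y : ℕ) : Nat.land x y < 2 ^ n :=
  lt_of_le_of_lt Nat.and_le_left h

theorem Mod.mem (M : Mod H n B T d D) {i : ℕ} (h : D.testBit i = true) : i ∈ bset n D :=
  ⟨lt_of_not_ge fun hi => by
    rw [Nat.testBit_lt_two_pow (M.lt.trans_le (Nat.pow_le_pow_right (by norm_num) hi))] at h
    exact absurd h (by simp), h⟩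

omit [Fintype Ω] [DecidableRel E.Adj] in
theorem Loc.eqv (L : Loc E H a b n d D S f) (M : Mod H n B T d D) (h : H) {y : ℕ}
    (hy : y ∈ bset n D) : f (h • y) = h • f y := by
  obtain ⟨g, rfl⟩ := M.ex hy
  rw [← mul_smul, L.map, L.map, mul_smul]

omit [Fintype Ω] [DecidableRel E.Adj] in
theorem Loc.fd (L : Loc E H a b n d D S f) : f d = b := by simpa using L.map 1

omit [Fintype Ω] [DecidableRel E.Adj] in
theorem Loc.inj (L : Loc E H a b n d D S f) (M : Mod H n B T d D) {x y : ℕ} (hx : x ∈ bset n D)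
    (hy : y ∈ bset n D) (e : f x = f y) : x = y := by
  obtain ⟨g, rfl⟩ := M.ex hx
  obtain ⟨h, rfl⟩ := M.ex hy
  rw [L.map, L.map] at e
  exact (map_inj L.st g h).mp e

theorem Loc.fadj (L : Loc E H a b n d D S f) (A : Abs E H a k l lam mu) (M : Mod H n B T d D) {y : ℕ}
    (hy : y ∈ bset n D) : E.Adj a (f y) := by
  obtain ⟨g, rfl⟩ := M.ex hy
  rw [L.map, ← A.fa g, A.adj]; exact L.adj

theorem Loc.count (L : Loc E H a b n d D S f) (A : Abs E H a k l lam mu) (M : Mod H n B T d D)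
    (P : Ω → Prop) : {y | y ∈ bset n D ∧ P (f y)}.ncard = {x | E.Adj a x ∧ P x}.ncard := by
  rw [← M.orb, map_ncard L.st L.map, A.orbD L.adj]; rfl

/-- `R` is the set of neighbours of `y` -/
def Row (E : SimpleGraph Ω) (n D : ℕ) (f : ℕ → Ω) (e : ℕ × ℕ) : Prop :=
  e.1 ∈ bset n D ∧ e.2 < 2 ^ n ∧ {z | z ∈ bset n D ∧ E.Adj (f e.1) (f z)} = bset n e.2

theorem Loc.rowW (L : Loc E H a b n d D S f) (A : Abs E H a k l lam mu) (M : Mod H n B T d D) {y : ℕ}
    {u : List ℕ} (h1 : bitB D y = true) (h2 : mem1 T u (pt d) y = true) :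
    Row E n D f (y, Nat.land D (runZ (nat_lit 1) T u S)) := by
  have hy := M.mem (bitB_eq _ _ ▸ h1)
  have e : M.el u • y = d := mem1_pt M.ok hy.1 h2
  refine ⟨hy, land_lt M.lt _, Set.ext fun z => ?_⟩
  have k : z ∈ bset n D → (E.Adj (f y) (f z) ↔ (runZ (nat_lit 1) T u S).testBit z) := fun hz => by
    have := Set.ext_iff.mp L.row (M.el u • z)
    rw [M.run _ _ hz.1, ← A.adj (M.el u), ← L.eqv M _ hy, ← L.eqv M _ hz, e, L.fd]
    exact ⟨fun h => (this.mp ⟨(M.smul_mem _ _).mpr hz, h⟩).2,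
      fun h => (this.mpr ⟨M.smul_lt _ hz.1, h⟩).2⟩
  simp only [bset, Set.mem_setOf_eq, testBit_land, Bool.and_eq_true] at k ⊢
  tauto

noncomputable def nn (B k lam mu : Nat) (e e' : Nat × Nat) : Nat :=
  Nat.sub (Nat.sub (cond (Nat.beq e.1 e'.1) k (cond (bitB e.2 e'.1) lam mu)) (nat_lit 1))
    (popc B (Nat.land e.2 e'.2))

noncomputable def bil (B k lam mu : Nat) (Y Y' : List (Nat × Nat)) : Nat :=
  (Y.map fun e => (Y'.map fun e' => nn B k lam mu e e').sum).sum

noncomputable def dia (B k lam mu : Nat) (Y : List (Nat × Nat)) : Nat :=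
  (Y.map fun e => nn B k lam mu e e).sum

noncomputable def quadB (B k l lam mu c0 c1 d D S : Nat) (T : List Net) (Y : List (Nat × List Nat)) :
    Bool :=
  band (lall (fun e => band (bitB D e.1) (mem1 T e.2 (pt d) e.1)) Y)
    (frcL (Y.map fun e => Nat.land D (runZ (nat_lit 1) T e.2 S)) fun Rs =>
      frc (bil B k lam mu ((Y.map Prod.fst).zip Rs) ((Y.map Prod.fst).zip Rs)) fun x1 =>
      frc (bil B k lam mu ((Y.map Prod.fst).zip Rs) [(d, S)]) fun x2 =>
      frc (dia B k lam mu ((Y.map Prod.fst).zip Rs)) fun x3 => frc (nn B k lam mu (d, S) (d, S)) fun x4 =>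
      decide ((x1 : ℤ) - 2 * (c1 - c0) * x2 - 2 * c0 * x3 + ((c1 - c0) * (c1 - c0) + 2 * (c1 - c0) * c0) * x4 +
        c0 * c0 * l = 0))

/-- the indicator of adjacency -/
def chi (E : SimpleGraph Ω) [DecidableRel E.Adj] (x q : Ω) : ℤ := if E.Adj x q then 1 else 0

open Classical in
/-- the points at distance two -/
noncomputable def far (E : SimpleGraph Ω) (a : Ω) : Finset Ω :=
  Finset.univ.filter fun q => q ≠ a ∧ ¬ E.Adj a q

theorem Loc.nn_eq (L : Loc E H a b n d D S f) (A : Abs E H a k l lam mu) (M : Mod H n B T d D)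
    {e e' : ℕ × ℕ} (h : Row E n D f e) (h' : Row E n D f e') :
    ∑ q ∈ far E a, chi E (f e.1) q * chi E (f e'.1) q = nn B k lam mu e e' := by
  classical
  have e1 := Abs.split {z | E.Adj (f e.1) z ∧ E.Adj (f e'.1) z} a
    ⟨(L.fadj A M h.1).symm, (L.fadj A M h'.1).symm⟩ E
  have e2 : {x | E.Adj a x ∧ x ∈ {z | E.Adj (f e.1) z ∧ E.Adj (f e'.1) z}}.ncard =
      popc B (Nat.land e.2 e'.2) := by
    rw [← L.count A M, ← ncard_bset M.hB (land_lt h.2.1 _)]
    congr 1
    ext z
    have a1 := Set.ext_iff.mp h.2.2 z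
    have a2 := Set.ext_iff.mp h'.2.2 z
    simp only [bset, Set.mem_setOf_eq, testBit_land, Bool.and_eq_true] at a1 a2 ⊢
    tauto
  have e3 : cond (Nat.beq e.1 e'.1) k (cond (bitB e.2 e'.1) lam mu) =
      {z | E.Adj (f e.1) z ∧ E.Adj (f e'.1) z}.ncard := by
    rw [A.cn]
    have a1 := Set.ext_iff.mp h.2.2 e'.1
    by_cases h1 : e.1 = e'.1
    · simp [h1]
    · rw [if_neg fun x => h1 (L.inj M h.1 h'.1 x), bitB_eq, Bool.cond_eq_ite, Bool.cond_eq_ite,
        if_neg (by simpa using h1)]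
      exact if_congr ⟨fun x => (a1.mpr ⟨h'.1.1, x⟩).2, fun x => (a1.mp ⟨h'.1, x⟩).2⟩ rfl rfl
  have e4 : nn B k lam mu e e' =
      ((far E a).filter fun q => E.Adj (f e.1) q ∧ E.Adj (f e'.1) q).card := by
    rw [nn, e3, e1, e2, ← Set.ncard_coe_finset]
    simp only [Nat.sub_eq]
    rw [add_assoc, Nat.add_sub_cancel_left, Nat.add_sub_cancel_left]
    congr 1
    ext z
    simp [far]
  rw [e4, Finset.card_filter]
  push_cast
  refine Finset.sum_congr rfl fun q _ => ?_
  simp only [chi]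
  split_ifs <;> simp_all

theorem sum_bil {ι α : Type*} (s : Finset ι) (g : α → ι → ℤ) (N : α → α → ℕ) (Y Y' : List α)
    (h : ∀ e ∈ Y, ∀ e' ∈ Y', ∑ q ∈ s, g e q * g e' q = N e e') :
    ∑ q ∈ s, (Y.map fun e => g e q).sum * (Y'.map fun e => g e q).sum =
      ((Y.map fun e => (Y'.map fun e' => N e e').sum).sum : ℕ) := by
  induction Y with
  | nil => simp
  | cons e Y ih =>
    simp only [List.map_cons, List.sum_cons, add_mul, Finset.sum_add_distrib, Nat.cast_add]
    rw [ih fun x hx => h x (List.mem_cons_of_mem _ hx)]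
    congr 1
    have := h e List.mem_cons_self
    clear ih h
    induction Y' with
    | nil => simp
    | cons e' Y' ih =>
      simp only [List.map_cons, List.sum_cons, mul_add, Finset.sum_add_distrib, Nat.cast_add]
      rw [ih fun x hx => this x (List.mem_cons_of_mem _ hx), this e' List.mem_cons_self]

theorem sum_dia {ι α : Type*} (s : Finset ι) (g : α → ι → ℤ) (N : α → ℕ) (Y : List α)
    (h : ∀ e ∈ Y, ∑ q ∈ s, g e q = N e) :
    ∑ q ∈ s, (Y.map fun e => g e q).sum = ((Y.map N).sum : ℕ) := by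
  induction Y with
  | nil => simp
  | cons e Y ih =>
    simp only [List.map_cons, List.sum_cons, Finset.sum_add_distrib, Nat.cast_add]
    rw [ih fun x hx => h x (List.mem_cons_of_mem _ hx), h e List.mem_cons_self]

theorem step4 (L : Loc E H a b n d D S f) (A : Abs E H a k l lam mu) (M : Mod H n B T d D)
    {c0 c1 : ℕ} {Y : List (ℕ × List ℕ)} (h : quadB B k l lam mu c0 c1 d D S T Y = true) :
    (∀ y ∈ Y.map Prod.fst, y ∈ bset n D) ∧ ∀ q, q ≠ a → ¬ E.Adj a q →
      (Y.map Prod.fst).countP (fun y => decide (E.Adj (f y) q)) = if E.Adj b q then c1 else c0 := by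
  simp only [quadB, band_eq, lall_eq, frcL_eq, frc_eq, decide_eq_true_eq, List.zip_map'] at h
  obtain ⟨h1, h2⟩ := h
  refine ⟨fun y hy => ?_, fun q q1 q2 => ?_⟩
  · obtain ⟨e, he, rfl⟩ := List.mem_map.mp hy
    exact M.mem (bitB_eq _ _ ▸ (h1 e he).1)
  set Z := Y.map fun e => (e.1, Nat.land D (runZ (nat_lit 1) T e.2 S)) with hZ
  have r1 : ∀ e ∈ Z, Row E n D f e := fun e he => by
    obtain ⟨e, he', rfl⟩ := List.mem_map.mp he
    exact L.rowW A M (h1 e he').1 (h1 e he').2
  have r2 : Row E n D f (d, S) := ⟨M.orb ▸ mem_orbit_self d, L.lt, by rw [L.fd]; exact L.row⟩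
  have sq : ∀ x q, chi E x q * chi E x q = chi E x q := fun x q => by
    simp only [chi]; split_ifs <;> simp
  have s1 := sum_bil (far E a) (fun e => chi E (f e.1)) (nn B k lam mu) Z Z
    fun e he e' he' => L.nn_eq A M (r1 e he) (r1 e' he')
  have s2 := sum_bil (far E a) (fun e => chi E (f e.1)) (nn B k lam mu) Z [(d, S)]
    fun e he e' he' => L.nn_eq A M (r1 e he) (List.mem_singleton.mp he' ▸ r2)
  have s3 := sum_dia (far E a) (fun e => chi E (f e.1)) (fun e => nn B k lam mu e e) Z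
    fun e he => by simpa only [sq] using L.nn_eq A M (r1 e he) (r1 e he)
  have s4 := L.nn_eq A M r2 r2
  have s5 : (far E a).card = l := by
    rw [← A.cardG, ← Set.ncard_coe_finset]; congr 1; ext z; simp [far]
  simp only [sq, List.map_singleton, List.sum_singleton, L.fd] at s2 s4
  rw [bil, bil, dia, ← s1, ← s3, ← s4, ← s5] at h2
  simp only [List.map_singleton, List.sum_singleton] at h2
  rw [← s2] at h2
  have z : ∑ q ∈ far E a, ((Z.map fun e => chi E (f e.1) q).sum - (c1 - c0) * chi E b q - c0) ^ 2 = 0 := by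
    rw [← h2, Finset.mul_sum, Finset.mul_sum, Finset.mul_sum, ← Finset.sum_sub_distrib,
      ← Finset.sum_sub_distrib, ← Finset.sum_add_distrib, mul_comm _ ((far E a).card : ℤ),
      ← nsmul_eq_mul, ← Finset.sum_const, ← Finset.sum_add_distrib]
    refine Finset.sum_congr rfl fun q _ => ?_
    have := sq b q
    linear_combination ((c1 : ℤ) - c0) ^ 2 * this
  have z2 := (Finset.sum_eq_zero_iff_of_nonneg fun _ _ => sq_nonneg _).mp z q (by simp [far, q1, q2])
  have z3 : ∀ l : List ℕ, (l.map fun y => chi E (f y) q).sum =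
      (l.countP (fun y => decide (E.Adj (f y) q)) : ℕ) := fun l => by
    induction l with
    | nil => simp
    | cons e l ih =>
      rw [List.map_cons, List.sum_cons, List.countP_cons, ih, chi]
      split_ifs <;> simp_all [add_comm]
  have z4 := z3 (Y.map Prod.fst)
  rw [hZ, List.map_map] at z2
  rw [List.map_map] at z4
  rw [show ((fun e : ℕ × ℕ => chi E (f e.1) q) ∘ fun e : ℕ × List ℕ =>
    (e.1, Nat.land D (runZ (nat_lit 1) T e.2 S))) = (fun y => chi E (f y) q) ∘ Prod.fst from rfl, z4,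
    pow_eq_zero_iff two_ne_zero, chi] at z2
  split_ifs at z2 ⊢ <;> omega

end Cfsg.Agent.R3
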