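import Mathlib

set_option autoImplicit false

/-! The strongly regular graph of a rank 3 permutation group. -/

namespace Cfsg.Agent.R3
open MulAction

/-- a strongly regular graph with a group `H` that fixes `a` and is transitive on the neighbours and on
the non-neighbours of `a` -/
structure Abs {Ω : Type*} [Fintype Ω] (E : SimpleGraph Ω) [DecidableRel E.Adj] (H : Type*) [Group H]
    [MulAction H Ω] (a : Ω) (k l lam mu : ℕ) : Prop where
  srg : E.IsSRGWith (1 + k + l) k lam mu
  adj : ∀ (h : H) x y, E.Adj (h • x) (h • y) ↔ E.Adj x y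
  fa : ∀ h : H, h • a = a
  trD : ∀ x y, E.Adj a x → E.Adj a y → ∃ h : H, h • x = y
  trG : ∀ x y, x ≠ a → ¬ E.Adj a x → y ≠ a → ¬ E.Adj a y → ∃ h : H, h • x = y
  nb : lam + 1 ≠ k

theorem Abs.comp {Ω : Type*} [Fintype Ω] {E : SimpleGraph Ω} [DecidableRel E.Adj] {H H' : Type*}
    [Group H] [Group H'] [MulAction H Ω] {a : Ω} {k l lam mu : ℕ} (A : Abs E H a k l lam mu)
    (e : H' ≃* H) : letI := MulAction.compHom Ω e.toMonoidHom; Abs E H' a k l lam mu := by
  letI := MulAction.compHom Ω e.toMonoidHom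
  have s : ∀ (h : H) (x : Ω), e.symm h • x = h • x := fun h x => by
    change e (e.symm h) • x = _
    rw [e.apply_symm_apply]
  exact ⟨A.srg, fun h => A.adj (e h), fun h => A.fa (e h),
    fun x y h1 h2 => (A.trD x y h1 h2).elim fun h hh => ⟨e.symm h, (s _ _).trans hh⟩,
    fun x y h1 h2 h3 h4 => (A.trG x y h1 h2 h3 h4).elim fun h hh => ⟨e.symm h, (s _ _).trans hh⟩, A.nb⟩

theorem cnt_swap {Ω G : Type*} [Finite Ω] [Group G] [MulAction G Ω] [IsPretransitive G Ω]
    (r : Ω → Ω → Prop) (hr : ∀ (g : G) x y, r (g • x) (g • y) ↔ r x y) (a : Ω) :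
    (∀ x, {y | r x y}.ncard = {y | r a y}.ncard) ∧ {y | r y a}.ncard = {y | r a y}.ncard := by
  classical
  have := Fintype.ofFinite Ω
  have c0 : ∀ p : Ω → Prop, {y | p y}.ncard = (Finset.univ.filter p).card := fun p => by
    rw [← Set.ncard_coe_finset]; congr 1; ext y; simp
  have c1 : ∀ (s : Ω → Ω → Prop), (∀ (g : G) x y, s (g • x) (g • y) ↔ s x y) → ∀ x,
      {y | s x y}.ncard = {y | s a y}.ncard := fun s hs x => by
    obtain ⟨u, rfl⟩ := exists_smul_eq G a x
    symm
    exact Set.ncard_congr (fun y _ => u • y) (fun y hy => (hs u a y).mpr hy)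
      (fun y z _ _ e => MulAction.injective u e)
      fun z hz => ⟨u⁻¹ • z, (hs u a _).mp (by rwa [smul_inv_smul]), smul_inv_smul u z⟩
  refine ⟨c1 r hr, ?_⟩
  have e : ∑ x, {y | r x y}.ncard = ∑ y, {x | r x y}.ncard := by
    simp only [c0, Finset.card_filter]
    exact Finset.sum_comm
  rw [Finset.sum_congr rfl fun x _ => c1 r hr x,
    Finset.sum_congr rfl fun x _ => c1 (fun x y => r y x) (fun g x y => hr g y x) x] at e
  simp only [Finset.sum_const, smul_eq_mul, Finset.card_univ] at e
  exact (Nat.eq_of_mul_eq_mul_left (Fintype.card_pos_iff.mpr ⟨a⟩) e).symm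

theorem srg_block {Ω : Type*} [Fintype Ω] {E : SimpleGraph Ω} [DecidableRel E.Adj] {n k lam mu : ℕ}
    (h : E.IsSRGWith n k lam mu) (hk : lam + 1 = k) : k + 1 ∣ n := by
  classical
  let B : Ω → Finset Ω := fun x => insert x (E.neighborFinset x)
  have cB : ∀ x, (B x).card = k + 1 := fun x => by
    rw [Finset.card_insert_of_notMem (by simp), E.card_neighborFinset_eq_degree, h.regular.degree_eq]
  have sub : ∀ x y, E.Adj x y → B x ⊆ B y := fun x y hxy => by
    have h1 : (E.commonNeighbors x y).toFinset ⊆ (E.neighborFinset x).erase y := fun z hz => by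
      simp only [Set.mem_toFinset, SimpleGraph.mem_commonNeighbors] at hz
      simp only [Finset.mem_erase, SimpleGraph.mem_neighborFinset]
      exact ⟨hz.2.ne', hz.1⟩
    have h2 := Finset.eq_of_subset_of_card_le h1 (by
      rw [Finset.card_erase_of_mem (by simpa using hxy), E.card_neighborFinset_eq_degree,
        h.regular.degree_eq, Set.toFinset_card, h.of_adj x y hxy]; omega)
    intro z hz
    simp only [B, Finset.mem_insert, SimpleGraph.mem_neighborFinset] at hz ⊢
    rcases hz with rfl | hz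
    · exact Or.inr hxy.symm
    · by_cases e : z = y
      · exact Or.inl e
      · have : z ∈ (E.commonNeighbors x y).toFinset := by rw [h2]; simp [e, hz]
        simp only [Set.mem_toFinset, SimpleGraph.mem_commonNeighbors] at this
        exact Or.inr this.2
  have eqB : ∀ x y, B y = B x ↔ y ∈ B x := fun x y => by
    refine ⟨fun e => e ▸ Finset.mem_insert_self _ _, fun hy => ?_⟩
    rcases Finset.mem_insert.mp hy with rfl | hy
    · rfl
    · have := (E.mem_neighborFinset _ _).mp hy
      exact le_antisymm (sub _ _ this.symm) (sub _ _ this)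
  rw [← h.card, ← Finset.card_univ, Finset.card_eq_sum_card_image B]
  refine Finset.dvd_sum fun S hS => ?_
  obtain ⟨x, _, rfl⟩ := Finset.mem_image.mp hS
  rw [show Finset.univ.filter (fun y => B y = B x) = B x from by ext y; simp [eqB], cB]

theorem exists_abs {Ω : Type*} [Fintype Ω] [DecidableEq Ω] (G : Subgroup (Equiv.Perm Ω))
    [IsPretransitive G Ω] (a b c : Ω) {k l : ℕ} (hΩ : Fintype.card Ω = 1 + k + l)
    (hb : (orbit (stabilizer G a) b).ncard = k) (hc : (orbit (stabilizer G a) c).ncard = l)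
    (hk : 1 < k) (hl : 1 < l) (hkl : k ≠ l) (hd : ¬ k + 1 ∣ 1 + k + l) :
    ∃ (E : SimpleGraph Ω) (_ : DecidableRel E.Adj) (lam mu : ℕ),
      Abs E (stabilizer G a) a k l lam mu ∧
      ∀ g ∈ G, ∀ x y, E.Adj (g x) (g y) ↔ E.Adj x y := by
  classical
  set D := orbit (stabilizer G a) b
  set C := orbit (stabilizer G a) c
  have na : ∀ z, 1 < (orbit (stabilizer G a) z).ncard → a ∉ orbit (stabilizer G a) z := fun z hz ha => by
    rw [← orbit_eq_iff.mpr ha] at hz
    have : orbit (stabilizer G a) a = {a} := by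
      ext y
      exact ⟨by rintro ⟨g, rfl⟩; exact g.2, by rintro rfl; exact mem_orbit_self _⟩
    simp [this] at hz
  have aD : a ∉ D := na b (hb ▸ hk)
  have aC : a ∉ C := na c (hc ▸ hl)
  have DC : Disjoint D C := (orbit.eq_or_disjoint b c).resolve_left fun e => hkl (by
    rw [← hb, ← hc]; exact congrArg _ e)
  have cov : ∀ x, x = a ∨ x ∈ D ∨ x ∈ C := fun x => by
    have : insert a (D ∪ C) = Set.univ := Set.eq_of_subset_of_ncard_le (Set.subset_univ _) (by
      rw [Set.ncard_univ, Nat.card_eq_fintype_card, hΩ, Set.ncard_insert_of_notMem (by simp [aD, aC]),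
        Set.ncard_union_eq DC, hb, hc]; omega)
    simpa using (this ▸ Set.mem_univ x : x ∈ insert a (D ∪ C))
  let r : Ω → Ω → Prop := fun x y => ∃ g : G, g • a = x ∧ g⁻¹ • y ∈ D
  have hD : ∀ (g : G), g • a = a → ∀ y, g • y ∈ D ↔ y ∈ D := fun g hg y =>
    ⟨fun ⟨u, hu⟩ => ⟨(⟨g, hg⟩ : stabilizer G a)⁻¹ * u, by
      simp only [mul_smul] at hu ⊢
      rw [hu]; exact inv_smul_smul g y⟩, fun ⟨u, hu⟩ => ⟨(⟨g, hg⟩ : stabilizer G a) * u, by
      simp only [mul_smul] at hu ⊢
      rw [hu]; rfl⟩⟩
  have rg : ∀ (g : G) y, r (g • a) y ↔ g⁻¹ • y ∈ D := fun g y =>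
    ⟨fun ⟨g', h1, h2⟩ => by
      have := (hD (g⁻¹ * g') (by rw [mul_smul, h1, inv_smul_smul]) _).mpr h2
      rwa [mul_smul, smul_inv_smul] at this, fun h => ⟨g, rfl, h⟩⟩
  have ra : ∀ y, r a y ↔ y ∈ D := fun y => by simpa using rg 1 y
  have rinv : ∀ (g : G) x y, r (g • x) (g • y) ↔ r x y := fun g x y => by
    obtain ⟨u, rfl⟩ := exists_smul_eq G a x
    rw [← mul_smul, rg, rg, mul_inv_rev, mul_smul, inv_smul_smul]
  have cD : {y | r a y}.ncard = k := by
    rw [← hb]; congr 1; ext y; exact ra y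
  have so : ∀ z, r z a → orbit (stabilizer G a) z ⊆ {y | r y a} := by
    rintro z hz _ ⟨g, rfl⟩
    have := (rinv g.1 z a).mpr hz
    rwa [show g.1 • a = a from g.2] at this
  have cS' : {y | r y a}.ncard = k := (cnt_swap r rinv a).2.trans cD
  have sy : ∀ y, r y a ↔ y ∈ D := by
    have nC : ∀ z ∈ C, ¬ r z a := fun z hz hr => by
      have h1 := so z hr
      rw [orbit_eq_iff.mpr hz] at h1
      by_cases h2 : ∃ w ∈ D, r w a
      · obtain ⟨w, hw, h2⟩ := h2
        have h3 := so w h2
        rw [orbit_eq_iff.mpr hw] at h3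
        have := Set.ncard_le_ncard (Set.union_subset h3 h1) (Set.toFinite _)
        rw [Set.ncard_union_eq DC, hb, hc, cS'] at this; omega
      · refine hkl ?_
        rw [← cS', ← hc]
        congr 1
        refine le_antisymm (fun w hw => ?_) h1
        rcases cov w with rfl | h | h
        exacts [absurd ((ra _).mp hw) aD, absurd ⟨w, h, hw⟩ h2, h]
    have : {y | r y a} = D := Set.eq_of_subset_of_ncard_le (fun w hw => by
      rcases cov w with rfl | h | h
      exacts [absurd ((ra _).mp hw) aD, h, absurd hw (nC w h)]) (by rw [cS', hb])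
    exact fun y => by rw [← this]; rfl
  let E : SimpleGraph Ω := ⟨r, ⟨fun x y h => by
    obtain ⟨u, rfl⟩ := exists_smul_eq G a y
    rw [← smul_inv_smul u x, rinv, sy] at h
    exact (rg _ _).mpr h⟩, ⟨fun x h => by
    obtain ⟨u, rfl⟩ := exists_smul_eq G a x
    rw [rinv, ra] at h; exact aD h⟩⟩
  have cm : ∀ (g : G) x y, Fintype.card (E.commonNeighbors (g • x) (g • y)) =
      Fintype.card (E.commonNeighbors x y) := fun g x y => by
    symm
    refine Fintype.card_congr (Equiv.subtypeEquiv (MulAction.toPerm g) fun z => ?_)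
    simp only [SimpleGraph.mem_commonNeighbors]
    exact (and_congr (rinv g x z) (rinv g y z)).symm
  have cm2 : ∀ z x y (g : G), g • a = x → g⁻¹ • y ∈ orbit (stabilizer G a) z →
      Fintype.card (E.commonNeighbors x y) = Fintype.card (E.commonNeighbors a z) := by
    rintro z _ y g rfl ⟨u, hu⟩
    rw [← smul_inv_smul g y, cm, ← show u.1 • z = g⁻¹ • y from hu, ← cm u.1 a z,
      show u.1 • a = a from u.2]
  have srg : E.IsSRGWith (1 + k + l) k (Fintype.card (E.commonNeighbors a b))
      (Fintype.card (E.commonNeighbors a c)) := by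
    refine ⟨hΩ, fun x => ?_, fun x y ⟨g, h1, h2⟩ => cm2 b x y g h1 h2, fun x y hxy hn => ?_⟩
    · rw [← SimpleGraph.card_neighborFinset_eq_degree, ← Set.ncard_coe_finset,
        SimpleGraph.coe_neighborFinset]
      exact ((cnt_swap r rinv a).1 x).trans cD
    · obtain ⟨g, rfl⟩ := exists_smul_eq G a x
      refine cm2 c _ y g rfl ?_
      rcases cov (g⁻¹ • y) with h | h | h
      · exact absurd (by rw [← h, smul_inv_smul]) hxy
      · exact absurd ((rg _ _).mpr h) hn
      · exact h
  refine ⟨E, inferInstance, _, _, ⟨srg, fun h x y => rinv h.1 x y, fun h => h.2, fun x y hx hy => ?_,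
    fun x y h1 h2 h3 h4 => ?_, fun h => hd (srg_block srg h)⟩, fun g hg x y => rinv ⟨g, hg⟩ x y⟩
  · have : y ∈ orbit (stabilizer G a) x := by
      rw [orbit_eq_iff.mpr ((ra _).mp hx)]; exact (ra _).mp hy
    exact this
  · have : y ∈ orbit (stabilizer G a) x := by
      rw [orbit_eq_iff.mpr (((cov x).resolve_left h1).resolve_left fun h => h2 ((ra _).mpr h))]
      exact ((cov y).resolve_left h3).resolve_left fun h => h4 ((ra _).mpr h)
    exact this

end Cfsg.Agent.R3
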