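import Cfsg.Agent.R3.Dual

set_option autoImplicit false

/-! Twisting the action of the point stabiliser by an automorphism. -/

namespace Cfsg.Agent.R3
open MulAction Cfsg.Agent.Comp Cfsg.Agent.Schur

theorem eqs_on {N : ℕ} {T : List Net} (hT : TOK N T) {bs : List ℕ} (hb : ∀ b ∈ bs, b < N)
    {E : List (List ℕ × List ℕ)} (hE : eqsZ N bs T E = true) :
    ∀ e ∈ E, ∀ b ∈ bs, ev (sig T) e.1 ((ev (sig T) e.2)⁻¹ b) = b := fun e he b hb' => by
  rw [eqsZ_eq] at hE
  unfold eqsB at hE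
  rw [frc_eq, frc_eq, lall_eq] at hE
  have h1 := Nat.eq_of_beq_eq_true (hE e he)
  obtain ⟨k, hk, rfl⟩ := List.getElem_of_mem hb'
  have h2 : (ev (sig T) e.2)⁻¹ bs[k] < N := Bd.lt ((Bd N).inv_mem (hT.ev_mem _)) (hb _ hb')
  have h3 := congrArg (fun x => x.testBit (k * N + (ev (sig T) e.2)⁻¹ bs[k])) h1
  simp only [testBit_runW hT _ _ hk h2] at h3
  rw [testBit_ptsB hb hk (Bd.lt (hT.ev_mem _) h2), testBit_ptsB hb hk (Bd.lt (hT.ev_mem _) h2)]
    at h3
  simpa [eq_comm] using h3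

theorem iso_of_pres {U : Type} [Group U] [IsSimpleGroup U] {s : ℕ → U} {L : ℕ} {R : List (List ℕ)}
    (h : IsPres s L R) (hR : ∀ w ∈ R, ∀ x ∈ w, x < L) {H : Subgroup (Equiv.Perm ℕ)} {n B d D : ℕ}
    {T : List Net} (M : Mod H n B T d D) (hc : Nat.card U = Nat.card H) (o : ℕ)
    (hs : Sat (sig T) (R.map (List.map (o + ·)))) (hL : 0 < L) {p : ℕ} (hp : p < n)
    (hne : mem1 T [o] (pt p) p = false) : ∃ e : U ≃* H, ∀ x < L, (e (s x)).1 = sig T (o + x) := by
  have := finite_of_le_Bd M.bd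
  obtain ⟨e, he⟩ := h.equiv_of_simple hR (fun x => sig T (o + x))
    (hs.reindex (o + ·) fun w hw => List.mem_map_of_mem hw) hL fun e => by
      rw [mem1_eq M.ok _ _ hp, ev_single, show sig T o = 1 from e] at hne
      simp [testBit_pt] at hne
  have e2 : gen (fun x => sig T (o + x)) L = H := Subgroup.eq_of_le_of_card_ge
    (gen_le.mpr fun x _ => M.all _) (by rw [← hc, Nat.card_congr e.toEquiv])
  exact ⟨e.trans (MulEquiv.subgroupCongr e2), he⟩

/-- the equations that say that the letter `p` conjugates one set of letters to another one -/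
def twE (L o1 o2 p : ℕ) : List (List ℕ × List ℕ) :=
  (List.range L).map fun x => ([o2 + x, p], [p, o1 + x])

noncomputable def twB (L o1 o2 p n d D S Z Z' : Nat) (T : List Net) (bs : List Nat) : Bool :=
  band (Nat.beq (ptsS bs) D) (band (eqsZ n bs T (twE L o1 o2 p)) (band (invZ T [[p]] D)
    (band (invZ T [[p]] S) (band (mem1 T [p] (pt d) d) (Nat.beq (runZ (nat_lit 1) T [p] Z') Z)))))

theorem twist {Ω : Type*} [Fintype Ω] {E : SimpleGraph Ω} [DecidableRel E.Adj]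
    {H : Subgroup (Equiv.Perm ℕ)} [MulAction H Ω] {a b c : Ω} {n B d D S Z Z' : ℕ}
    {T T' : List Net} {f : ℕ → Ω} (M : Mod H n B T d D) (hT : TOK n (T ++ T'))
    (Lo : Loc E H a b n d D S f) (hc : ∀ y ∈ bset n D, (E.Adj c (f y) ↔ Z'.testBit y))
    {U : Type} [Group U] {s : ℕ → U} {L o1 o2 p : ℕ} (hs : gen s L = ⊤)
    (e1 : ∃ e : U ≃* H, ∀ x < L, (e (s x)).1 = sig T (o1 + x))
    (e2 : ∃ e : U ≃* H, ∀ x < L, (e (s x)).1 = sig T (o2 + x))
    (ho : o1 + L ≤ T.length ∧ o2 + L ≤ T.length) {bs : List ℕ}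
    (h : twB L o1 o2 p n d D S Z Z' (T ++ T') bs = true) : ∃ (ψ : H ≃* H) (f' : ℕ → Ω),
      @Loc Ω E H (MulAction.compHom Ω ψ.toMonoidHom) a b n d D S f' ∧
      ∀ y ∈ bset n D, (E.Adj c (f' y) ↔ Z.testBit y) := by
  obtain ⟨e1, h1⟩ := e1
  obtain ⟨e2, h2⟩ := e2
  simp only [twB, band_eq, Nat.beq_eq, invZ_eq] at h
  obtain ⟨a1, a2, a3, a4, a5, a6⟩ := h
  have sg : ∀ x < T.length, sig (T ++ T') x = sig T x := fun x hx => by
    rw [sig, nth_eq, List.getD_append _ _ _ _ hx, ← nth_eq]; rfl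
  set π := sig (T ++ T') p with hπ
  have mb : ∀ y, y ∈ bs ↔ y ∈ bset n D := fun y => by
    rw [← testBit_ptsS, a1]; exact ⟨M.mem, fun h => h.2⟩
  have pD := inv_of_invS hT a3 (letter_mem_genW (x := p) List.mem_cons_self)
  have pS := inv_of_invS hT a4 (letter_mem_genW (x := p) List.mem_cons_self)
  have pd : π d = d := by simpa using mem1_pt hT M.dn a5
  have key : ∀ u : U, ∀ y ∈ bset n D, e2 u • π y = π (e1 u • y) := fun u => by
    have g1 : ∀ x < L, ∀ y ∈ bset n D, e2 (s x) • π y = π (e1 (s x) • y) := fun x hx y hy => by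
      have := eqs_on hT (fun b hb => ((mb b).mp hb).1) a2 _ (List.mem_map_of_mem (List.mem_range.mpr hx))
        (π (e1 (s x) • y)) ((mb _).mpr ((pD _).mpr ((M.smul_mem _ _).mpr hy)))
      simp only [ev_cons, ev_nil, mul_one, sg (o1 + x) (by omega), sg (o2 + x) (by omega), ← hπ,
        ← h1 x hx, ← h2 x hx] at this
      simpa [Subgroup.smul_def] using this
    refine genW_induction (p := fun u => ∀ y ∈ bset n D, e2 u • π y = π (e1 u • y)) (by simp)
      (fun w hw g hg y hy => ?_) (fun w hw g hg y hy => ?_) (hs ▸ Subgroup.mem_top u : u ∈ gen s L)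
    · obtain ⟨x, hx, rfl⟩ := mem_letters.mp hw
      rw [ev_single, map_mul, map_mul, mul_smul, mul_smul, hg y hy, g1 x hx _ ((M.smul_mem _ _).mpr hy)]
    · obtain ⟨x, hx, rfl⟩ := mem_letters.mp hw
      rw [ev_single, map_mul, map_mul, mul_smul, mul_smul, hg y hy, map_inv, map_inv, inv_smul_eq_iff,
        g1 x hx _ ((M.smul_mem _ _).mpr ((M.smul_mem _ _).mpr hy)), smul_inv_smul]
  have dD : d ∈ bset n D := M.orb ▸ mem_orbit_self d
  have k2 : ∀ h : H, e2 (e1.symm h) • d = π (h • d) := fun h => by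
    simpa [pd] using key (e1.symm h) d dD
  refine ⟨e1.symm.trans e2, fun y => f (π y), @Loc.mk Ω E H (MulAction.compHom Ω _) a b n d D S _ Lo.adj
    (Subgroup.ext fun h => ?_) (fun h => ?_) Lo.lt (Set.ext fun y => ?_), fun y hy => ?_⟩
  · change e2 (e1.symm h) ∈ stabilizer H b ↔ h • d = d
    rw [Lo.st, mem_stabilizer_iff, k2, ← π.injective.eq_iff (a := h • d), pd]
  · change _ = e2 (e1.symm h) • b
    rw [← Lo.map, k2]
  · rw [← pS, ← Lo.row, Set.mem_setOf_eq, Set.mem_setOf_eq, pD]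
  · rw [hc _ ((pD y).mpr hy), ← a6, runZ_eq, testBit_runW1 hT _ _ hy.1, ev_single]

end Cfsg.Agent.R3
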