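import Cfsg.Agent.R3.Twist

set_option autoImplicit false

/-! The first step, with all exceptional sets excluded by the number of their images. -/

namespace Cfsg.Agent.R3
open MulAction Cfsg.Agent.Comp Cfsg.Agent.Schur

variable {Ω : Type*} [Fintype Ω] {E : SimpleGraph Ω} [DecidableRel E.Adj]
  {H : Subgroup (Equiv.Perm ℕ)} [MulAction H Ω] {a : Ω} {k l lam mu n B d D : ℕ} {T : List Net}

noncomputable def f1W (B idx d n r k : Nat) (T : List Net) (w : List Nat) (m : Nat) : Bool :=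
  f1 B idx d (pt d) m || Nat.ble (Nat.succ k) (walk n r T w m (nat_lit 0) (nat_lit 0))

theorem stab_of_walk (M : Mod H n B T d D) {K : Subgroup H} (hK : K.index = popc B D)
    {W : List (List ℕ)} (hW : ∀ w ∈ W, M.el w ∈ K) {idx r : ℕ} (hi : (orbit K d).ncard ∣ idx)
    {As : List (ℕ × List ℕ)} {w : List ℕ} (hk : popc B D = k)
    (h : atomsB T W As D (f1W B idx d n r k T w) = true) : K = stabilizer H d := by
  have := finite_of_le_Bd M.bd
  have iv : ∀ g ∈ K, ∀ i, g • i ∈ orbit K d ↔ i ∈ orbit K d := fun g hg i =>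
    ⟨fun ⟨u, hu⟩ => ⟨(⟨g, hg⟩ : K)⁻¹ * u, by
      simp only [mul_smul] at hu ⊢
      rw [hu]; exact inv_smul_smul g i⟩, fun ⟨u, hu⟩ => ⟨(⟨g, hg⟩ : K) * u, by
      simp only [mul_smul] at hu ⊢
      rw [hu]; rfl⟩⟩
  obtain ⟨m, h1, h2, h3⟩ := atoms_sound M.ok h M.lt (X := orbit K d) (fun w hw => iv _ (hW w hw))
    (by rw [← M.orb]; rintro _ ⟨g, rfl⟩; exact ⟨g.1, rfl⟩)
  have h4 : d ∈ bset n m := h2 ▸ mem_orbit_self d
  rw [h2, ncard_bset M.hB h1] at hi
  rw [f1W, Bool.or_eq_true] at h3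
  rcases h3 with h3 | h3
  · simp only [f1, bitB_eq, h4.2, Bool.not_true, Bool.false_or, Bool.or_eq_true, Nat.beq_eq,
      Bool.not_eq_true', ← Bool.not_eq_true, or_self] at h3
    rcases h3 with rfl | h3
    · refine Subgroup.eq_of_le_of_card_ge (fun g hg => ?_) ?_
      · have : g • d ∈ bset n (pt d) := h2 ▸ (⟨⟨g, hg⟩, rfl⟩ : g • d ∈ orbit K d)
        have := this.2
        rw [testBit_pt, decide_eq_true_eq] at this
        exact this.symm
      · have e1 := K.index_mul_card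
        have e2 := (stabilizer H d).index_mul_card
        rw [M.index, ← hK, ← e1] at e2
        exact (Nat.eq_of_mul_eq_mul_left (Nat.pos_of_ne_zero K.index_ne_zero_of_finite) e2).le
    · exact absurd (Nat.mod_eq_zero_of_dvd hi) h3
  · have := walk_le M.ok M.all M.bd K (fun g hg i hi => Bool.eq_iff_iff.mpr (by
      have := iv g hg i
      rw [h2] at this
      exact ⟨fun h => (this.mp ⟨M.smul_lt g hi, h⟩).2, fun h => (this.mpr ⟨hi, h⟩).2⟩)) h3
    omega

theorem step1W (A : Abs E H a k l lam mu) (M : Mod H n B T d D) (hk : popc B D = k) {p v idx e : ℕ}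
    (hp : p.Prime) (hH : Nat.card H = k * (p ^ v * idx)) (h1 : ¬ p ∣ k) (h2 : ¬ p ∣ idx)
    {Q : List (ℕ × List (List ℕ))} (hE : ∀ x ∈ pcE (p ^ e) Q, ev (sig T) x.1 = ev (sig T) x.2)
    (hS : pcS Q = true) (hd : invZ T (pcW Q) (pt d) = true) {r : ℕ} {w : List ℕ}
    {As : List (ℕ × List ℕ)} (h : atomsB T (pcW Q) As D (f1W B idx d n r k T w) = true) :
    ∃ b, E.Adj a b ∧ stabilizer H b = stabilizer H d := by
  have := finite_of_le_Bd M.bd
  have := Fact.mk hp
  have k0 : 0 < k := Nat.pos_of_ne_zero fun e => h1 (e ▸ dvd_zero p)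
  obtain ⟨b0, hb0⟩ : {y | E.Adj a y}.Nonempty := Set.nonempty_of_ncard_ne_zero (by rw [A.deg]; omega)
  have cd : ∀ K : Subgroup H, K.index = k → Nat.card K = p ^ v * idx := fun K hK =>
    Nat.eq_of_mul_eq_mul_left k0 (by rw [← hH, ← K.index_mul_card, hK])
  have hQ := (pc_sound M.ok.finite hE hS).comap_of_injective ((H.subtype.comp
    (stabilizer H d).subtype)) (H.subtype_injective.comp (stabilizer H d).subtype_injective)
  obtain ⟨S, hS⟩ := hQ.exists_le_sylow
  have cS : Nat.card S = p ^ v := by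
    rw [S.card_eq_multiplicity, cd _ (M.index.trans hk), Nat.factorization_mul (pow_ne_zero _ hp.ne_zero)
      (show idx ≠ 0 from fun e => h2 (e ▸ dvd_zero p)), hp.factorization_pow]
    simp [Nat.factorization_eq_zero_of_not_dvd h2]
  obtain ⟨b, hb, hf⟩ := fix_of_pgroup (S.isPGroup'.map (stabilizer H d).subtype) b0
    (by rwa [A.orbD hb0, A.deg])
  rw [A.orbD hb0] at hb
  have iK : (stabilizer H b).index = k := by rw [index_stabilizer, A.orbD hb, A.deg]
  refine ⟨b, hb, stab_of_walk M (iK.trans hk.symm) (fun w hw => hf _ ⟨⟨M.el w, M.fix hd w hw⟩,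
    hS (ev_mem_genW hw), rfl⟩) ?_ hk h⟩
  rw [← relIndex_stabilizer]
  have e1 := ((stabilizer H d).subgroupOf (stabilizer H b)).index_mul_card
  have e2 : p ^ v ∣ Nat.card ((stabilizer H d).subgroupOf (stabilizer H b)) := by
    rw [← cS, ← Subgroup.card_map_of_injective (stabilizer H d).subtype_injective,
      ← Subgroup.card_map_of_injective (stabilizer H b).subtype_injective, Subgroup.subgroupOf_map_subtype]
    refine Subgroup.card_dvd_of_le fun g hg => ⟨?_, hf g hg⟩
    obtain ⟨x, -, rfl⟩ := hg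
    exact x.2
  obtain ⟨t, e2⟩ := e2
  rw [cd _ iK, e2, mul_left_comm] at e1
  exact ⟨t, (Nat.eq_of_mul_eq_mul_left (pow_pos hp.pos _) e1).symm⟩

/-- a subgroup that fixes `0` and has the order of the stabiliser is the stabiliser -/
theorem stab_of_card {M H : Subgroup (Equiv.Perm ℕ)} [Finite M] {n m : ℕ} (hn : 0 < n)
    (ho : (orbit M 0).ncard = n) (hM : Nat.card M = n * m) (hH : Nat.card H = m)
    (h1 : ∀ g ∈ H, g ∈ M ∧ g 0 = 0) (g : Equiv.Perm ℕ) : g ∈ H ↔ g ∈ M ∧ g 0 = 0 := by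
  have e1 := (stabilizer M 0).index_mul_card
  rw [index_stabilizer, ho, hM] at e1
  have : Finite ((stabilizer M 0).map M.subtype) :=
    Finite.of_equiv _ ((stabilizer M 0).equivMapOfInjective _ M.subtype_injective).toEquiv
  have : H = (stabilizer M 0).map M.subtype := Subgroup.eq_of_le_of_card_ge
    (fun g hg => ⟨⟨g, (h1 g hg).1⟩, (h1 g hg).2, rfl⟩)
    (by rw [Subgroup.card_map_of_injective M.subtype_injective, hH, Nat.eq_of_mul_eq_mul_left hn e1])
  refine ⟨h1 g, fun h => this ▸ ⟨⟨g, h.1⟩, h.2, rfl⟩⟩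

end Cfsg.Agent.R3
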